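import Mathlib
import Cfsg.Agent.Helper4.ItoTwoA
import Cfsg.Agent.Helper8.PRegA

set_option autoImplicit false

/-!
# S4146: class sizes `{1, n, m, nm}` with `(n, m) = 1` — basic lemmas

`idx g` is the index of the centralizer of `g` (= the class size).  `CS G n m` is the hypothesis of
S4146.  This file has the general lemmas (G0), (G1), (G2), (T2), the fixed point lemma and the
Sylow bookkeeping.
-/

namespace Cfsg.Agent.CS4

open Subgroup

variable {G : Type*} [Group G]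

/-- the index of the centralizer, i.e. the class size -/
noncomputable abbrev idx (g : G) : ℕ := (centralizer ({g} : Set G)).index

/-- `g` is an `ℓ`-element -/
def IsPEl (ℓ : ℕ) (g : G) : Prop := ∃ k : ℕ, orderOf g = ℓ ^ k

/-- the class-size hypothesis of S4146 -/
structure CS (G : Type*) [Group G] (n m : ℕ) : Prop where
  hn : 1 < n
  hm : 1 < m
  cop : n.Coprime m
  cs : ∀ g : G, idx g = 1 ∨ idx g = n ∨ idx g = m ∨ idx g = n * m
  exn : ∃ g : G, idx g = n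
  exm : ∃ g : G, idx g = m
  exnm : ∃ g : G, idx g = n * m

theorem CS.symm {n m : ℕ} (h : CS G n m) : CS G m n where
  hn := h.hm
  hm := h.hn
  cop := h.cop.symm
  cs := fun g => by
    rcases h.cs g with h1 | h1 | h1 | h1
    · exact Or.inl h1
    · exact Or.inr (Or.inr (Or.inl h1))
    · exact Or.inr (Or.inl h1)
    · exact Or.inr (Or.inr (Or.inr (by rw [h1, mul_comm])))
  exn := h.exm
  exm := h.exn
  exnm := by
    obtain ⟨g, hg⟩ := h.exnm
    exact ⟨g, by rw [hg, mul_comm]⟩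

/-! ### `IsPEl` API -/

theorem IsPEl.conj {ℓ : ℕ} {x : G} (hx : IsPEl ℓ x) (g : G) : IsPEl ℓ (g * x * g⁻¹) := by
  obtain ⟨k, hk⟩ := hx
  exact ⟨k, by rw [Cfsg.Agent.Helper8.PReg.orderOf_conj, hk]⟩

theorem isPEl_one (ℓ : ℕ) : IsPEl ℓ (1 : G) := ⟨0, by simp⟩

theorem IsPEl.of_mem_zpowers {ℓ : ℕ} (hℓ : ℓ.Prime) {x y : G} (hx : IsPEl ℓ x) (hy : y ∈ zpowers x) :
    IsPEl ℓ y := by
  obtain ⟨k, hk⟩ := hx
  have h1 : orderOf y ∣ orderOf x := by
    obtain ⟨j, rfl⟩ := mem_zpowers_iff.mp hy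
    exact orderOf_dvd_of_pow_eq_one (by rw [← zpow_natCast, ← zpow_mul, mul_comm, zpow_mul,
      zpow_natCast, pow_orderOf_eq_one, one_zpow])
  rw [hk] at h1
  obtain ⟨i, -, hi⟩ := (Nat.dvd_prime_pow hℓ).mp h1
  exact ⟨i, hi⟩

theorem IsPEl.mul {ℓ : ℕ} (hℓ : ℓ.Prime) {x y : G} (hx : IsPEl ℓ x) (hy : IsPEl ℓ y)
    (hxy : Commute x y) : IsPEl ℓ (x * y) := by
  obtain ⟨i, hi⟩ := hx
  obtain ⟨j, hj⟩ := hy
  have h1 := hxy.orderOf_mul_dvd_lcm
  rw [hi, hj] at h1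
  have h2 : Nat.lcm (ℓ ^ i) (ℓ ^ j) ∣ ℓ ^ (max i j) :=
    Nat.lcm_dvd (pow_dvd_pow _ (le_max_left _ _)) (pow_dvd_pow _ (le_max_right _ _))
  obtain ⟨l, -, hl⟩ := (Nat.dvd_prime_pow hℓ).mp (h1.trans h2)
  exact ⟨l, hl⟩

theorem IsPEl.inv {ℓ : ℕ} {x : G} (hx : IsPEl ℓ x) : IsPEl ℓ x⁻¹ := by
  obtain ⟨k, hk⟩ := hx
  exact ⟨k, by rw [orderOf_inv, hk]⟩

theorem IsPEl.of_mem {ℓ : ℕ} [Fact ℓ.Prime] {S : Subgroup G} (hS : IsPGroup ℓ S) {x : G}
    (hx : x ∈ S) : IsPEl ℓ x :=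
  Cfsg.Agent.Helper8.PReg.exists_orderOf_of_isPGroup ℓ S hS hx

theorem IsPEl.isPGroup_zpowers {ℓ : ℕ} [Fact ℓ.Prime] {x : G} (hx : IsPEl ℓ x) :
    IsPGroup ℓ (zpowers x) := by
  obtain ⟨k, hk⟩ := hx
  apply IsPGroup.of_card (n := k)
  rw [Nat.card_zpowers, hk]

theorem IsPEl.coprime {ℓ s : ℕ} (hℓ : ℓ.Prime) (hs : s.Prime) (hne : ℓ ≠ s) {x y : G}
    (hx : IsPEl ℓ x) (hy : IsPEl s y) : (orderOf x).Coprime (orderOf y) := by
  obtain ⟨i, hi⟩ := hx
  obtain ⟨j, hj⟩ := hy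
  rw [hi, hj]
  exact Nat.Coprime.pow _ _ ((Nat.coprime_primes hℓ hs).mpr hne)

theorem IsPEl.coprime_of_not_dvd {ℓ N : ℕ} (hℓ : ℓ.Prime) (hN : ¬ ℓ ∣ N) {x : G}
    (hx : IsPEl ℓ x) : (orderOf x).Coprime N := by
  obtain ⟨i, hi⟩ := hx
  rw [hi]
  exact Nat.Coprime.pow_left _ ((Nat.Prime.coprime_iff_not_dvd hℓ).mpr hN)

theorem IsPEl.eq_one_of_coprime {ℓ N : ℕ} (hℓ : ℓ.Prime) (hN : ¬ ℓ ∣ N) {x : G} (hx : IsPEl ℓ x)
    (hxN : orderOf x ∣ N) : x = 1 := by
  have h1 := hx.coprime_of_not_dvd hℓ hN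
  have h2 : orderOf x = 1 := Nat.Coprime.eq_one_of_dvd h1 hxN
  exact orderOf_eq_one_iff.mp h2

/-- the trick: `v` and `u` commute, have coprime orders, and `v * u` has the order of `u`;
then `v = 1`. -/
theorem eq_one_of_orderOf_mul_eq {v u : G} (hvu : Commute v u)
    (hcop : (orderOf v).Coprime (orderOf u)) (ho : orderOf (v * u) = orderOf u) : v = 1 := by
  have h1 := hvu.orderOf_mul_eq_mul_orderOf_of_coprime hcop
  rw [ho] at h1
  by_cases hu : orderOf u = 0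
  · rw [hu, Nat.coprime_zero_right] at hcop
    exact orderOf_eq_one_iff.mp hcop
  · have h2 : orderOf v = 1 := by
      have : orderOf v * orderOf u = 1 * orderOf u := by rw [one_mul]; exact h1.symm
      exact Nat.eq_of_mul_eq_mul_right (Nat.pos_of_ne_zero hu) this
    exact orderOf_eq_one_iff.mp h2

/-! ### index of centralizers -/

theorem idx_conj (g x : G) : idx (g * x * g⁻¹) = idx x :=
  Cfsg.Agent.Helper8.PReg.index_centralizer_conj g x

theorem idx_eq_one_iff (x : G) : idx x = 1 ↔ x ∈ center G :=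
  Cfsg.Agent.Helper4.ItoTwo.index_eq_one_iff x

theorem idx_ne_zero [Finite G] (g : G) : idx g ≠ 0 := index_ne_zero_of_finite

theorem idx_pos [Finite G] (g : G) : 0 < idx g := Nat.pos_of_ne_zero (idx_ne_zero g)

theorem mem_cent_iff {g x : G} : g ∈ centralizer ({x} : Set G) ↔ Commute g x := by
  rw [mem_centralizer_singleton_iff]
  exact ⟨fun h => h, fun h => h⟩

theorem self_mem_cent (x : G) : x ∈ centralizer ({x} : Set G) := mem_cent_iff.mpr (Commute.refl x)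

theorem idx_dvd_of_mem_zpowers {g a : G} (ha : a ∈ zpowers g) : idx a ∣ idx g :=
  index_dvd_of_le (Cfsg.Agent.Helper4.ItoTwo.centralizer_le_of_mem_zpowers ha)

theorem idx_dvd_of_cent_le {g a : G}
    (h : centralizer ({g} : Set G) ≤ centralizer ({a} : Set G)) : idx a ∣ idx g :=
  index_dvd_of_le h

/-- commuting elements of coprime orders: `C(xy) = C(x) ⊓ C(y)` -/
theorem cent_mul_of_coprime {x y : G} (hxy : Commute x y)
    (hcop : (orderOf x).Coprime (orderOf y)) :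
    centralizer ({x * y} : Set G) = centralizer ({x} : Set G) ⊓ centralizer ({y} : Set G) := by
  apply le_antisymm
  · have hx : x ∈ zpowers (x * y) := by
      have h1 : (x * y) ^ (orderOf y) = x ^ (orderOf y) := by
        rw [hxy.mul_pow, pow_orderOf_eq_one, mul_one]
      obtain ⟨k, hk⟩ := exists_pow_eq_self_of_coprime (x := x) hcop.symm
      rw [← h1] at hk
      have h2 : ((x * y) ^ orderOf y) ^ k ∈ zpowers (x * y) :=
        Subgroup.pow_mem _ (Subgroup.pow_mem _ (mem_zpowers _) _) _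
      rwa [hk] at h2
    have hy : y ∈ zpowers (x * y) := by
      have h1 : (x * y) ^ (orderOf x) = y ^ (orderOf x) := by
        rw [hxy.mul_pow, pow_orderOf_eq_one, one_mul]
      obtain ⟨k, hk⟩ := exists_pow_eq_self_of_coprime (x := y) hcop
      rw [← h1] at hk
      have h2 : ((x * y) ^ orderOf x) ^ k ∈ zpowers (x * y) :=
        Subgroup.pow_mem _ (Subgroup.pow_mem _ (mem_zpowers _) _) _
      rwa [hk] at h2
    exact le_inf (Cfsg.Agent.Helper4.ItoTwo.centralizer_le_of_mem_zpowers hx)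
      (Cfsg.Agent.Helper4.ItoTwo.centralizer_le_of_mem_zpowers hy)
  · intro c hc
    rw [mem_inf, mem_cent_iff, mem_cent_iff] at hc
    exact mem_cent_iff.mpr (hc.1.mul_right hc.2)

end Cfsg.Agent.CS4
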