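import Mathlib
import Cfsg.Agent.CS4.Basic
import Cfsg.Agent.Helper5.ProdCard

set_option autoImplicit false

/-!
# S4146: elements with coprime class sizes

(G1) `G = C(x) C(w)`, (T2) commuting is a class property, and the fixed point lemma.
-/

namespace Cfsg.Agent.CS4

open Subgroup
open scoped Pointwise

variable {G : Type*} [Group G]

/-- coprime indices multiply -/
theorem index_inf_of_coprime [Finite G] (H K : Subgroup G) (h : (H.index).Coprime (K.index)) :
    (H ⊓ K).index = H.index * K.index := by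
  apply le_antisymm index_inf_le
  apply Nat.le_of_dvd (Nat.pos_of_ne_zero index_ne_zero_of_finite)
  exact Nat.Coprime.mul_dvd_of_dvd_of_dvd h (index_dvd_of_le inf_le_left)
    (index_dvd_of_le inf_le_right)

/-- coprime indices: `|K : H ⊓ K| = |G : H|` -/
theorem relIndex_of_coprime [Finite G] (H K : Subgroup G) (h : (H.index).Coprime (K.index)) :
    H.relIndex K = H.index := by
  have h1 := index_inf_of_coprime H K h
  have h2 : (H ⊓ K).relIndex K * K.index = (H ⊓ K).index := relIndex_mul_index inf_le_right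
  rw [inf_relIndex_right, h1] at h2
  exact Nat.eq_of_mul_eq_mul_right (Nat.pos_of_ne_zero index_ne_zero_of_finite) h2

/-- the index of `C(x) ⊓ C(w)` for coprime class sizes -/
theorem idx_inf_of_coprime [Finite G] {x w : G} (h : (idx x).Coprime (idx w)) :
    (centralizer ({x} : Set G) ⊓ centralizer ({w} : Set G)).index = idx x * idx w :=
  index_inf_of_coprime _ _ h

/-- subgroups of coprime index: `G = H K` -/
theorem mul_eq_univ_of_coprime [Finite G] (H K : Subgroup G) (h : (H.index).Coprime (K.index)) :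
    ((H : Set G) * (K : Set G) : Set G) = Set.univ := by
  have h1 := Cfsg.Agent.Helper5.card_mul_set_mul_card_inf H K
  have h2 := index_inf_of_coprime H K h
  have h3 := (H ⊓ K).card_mul_index
  have h4 := H.card_mul_index
  have h5 := K.card_mul_index
  rw [h2] at h3
  set S := Nat.card ((H : Set G) * (K : Set G) : Set G) with hS
  have hG : 0 < Nat.card G := Nat.card_pos
  have h6 : S * Nat.card G = Nat.card G * Nat.card G := by
    calc S * Nat.card G = S * (Nat.card ↥(H ⊓ K) * (H.index * K.index)) := by rw [h3]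
      _ = (S * Nat.card ↥(H ⊓ K)) * (H.index * K.index) := by ring
      _ = (Nat.card H * Nat.card K) * (H.index * K.index) := by rw [h1]
      _ = (Nat.card H * H.index) * (Nat.card K * K.index) := by ring
      _ = Nat.card G * Nat.card G := by rw [h4, h5]
  have h7 : S = Nat.card G := Nat.eq_of_mul_eq_mul_right hG h6
  rw [Set.eq_univ_iff_ncard, ← Nat.card_coe_set_eq]
  exact h7

/-- (G1): `C(x)` is transitive on the class of `w` when the class sizes are coprime. -/
theorem exists_conj_eq_of_coprime [Finite G] {x w : G} (h : (idx x).Coprime (idx w)) (g : G) :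
    ∃ a ∈ centralizer ({x} : Set G), a * w * a⁻¹ = g * w * g⁻¹ := by
  have h1 := mul_eq_univ_of_coprime (centralizer ({x} : Set G)) (centralizer ({w} : Set G)) h
  have hg : g ∈ ((centralizer ({x} : Set G) : Set G) * (centralizer ({w} : Set G) : Set G)) := by
    rw [h1]; trivial
  obtain ⟨a, ha, b, hb, rfl⟩ := Set.mem_mul.mp hg
  refine ⟨a, ha, ?_⟩
  have hb' : b * w = w * b := (mem_cent_iff.mp hb).eq
  calc a * w * a⁻¹ = a * (w * b * b⁻¹) * a⁻¹ := by group
    _ = a * (b * w * b⁻¹) * a⁻¹ := by rw [hb']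
    _ = a * b * w * (a * b)⁻¹ := by group

/-- (T2): if `x` and `w` commute and have coprime class sizes then every conjugate of `x`
commutes with every conjugate of `w`. -/
theorem commute_conj_of_commute [Finite G] {x w : G} (h : (idx x).Coprime (idx w))
    (hxw : Commute x w) (g k : G) : Commute (g * x * g⁻¹) (k * w * k⁻¹) := by
  obtain ⟨a, ha, hak⟩ := exists_conj_eq_of_coprime h (g⁻¹ * k)
  have hax : Commute a x := mem_cent_iff.mp ha
  -- `x` commutes with `a w a⁻¹`
  have h1 : Commute x (a * w * a⁻¹) := by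
    have h2 : a * x * a⁻¹ = x := by rw [hax.eq]; group
    have h3 : Commute (a * x * a⁻¹) (a * w * a⁻¹) := by
      show a * x * a⁻¹ * (a * w * a⁻¹) = a * w * a⁻¹ * (a * x * a⁻¹)
      calc a * x * a⁻¹ * (a * w * a⁻¹) = a * (x * w) * a⁻¹ := by group
        _ = a * (w * x) * a⁻¹ := by rw [hxw.eq]
        _ = a * w * a⁻¹ * (a * x * a⁻¹) := by group
    rwa [h2] at h3
  rw [hak] at h1
  -- conjugate by `g`
  have h4 : k * w * k⁻¹ = g * (g⁻¹ * k * w * (g⁻¹ * k)⁻¹) * g⁻¹ := by group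
  rw [h4]
  show g * x * g⁻¹ * (g * (g⁻¹ * k * w * (g⁻¹ * k)⁻¹) * g⁻¹) =
    g * (g⁻¹ * k * w * (g⁻¹ * k)⁻¹) * g⁻¹ * (g * x * g⁻¹)
  calc g * x * g⁻¹ * (g * (g⁻¹ * k * w * (g⁻¹ * k)⁻¹) * g⁻¹)
      = g * (x * (g⁻¹ * k * w * (g⁻¹ * k)⁻¹)) * g⁻¹ := by group
    _ = g * ((g⁻¹ * k * w * (g⁻¹ * k)⁻¹) * x) * g⁻¹ := by rw [h1.eq]
    _ = g * (g⁻¹ * k * w * (g⁻¹ * k)⁻¹) * g⁻¹ * (g * x * g⁻¹) := by group

/-- the fixed point lemma: a `t`-element `w` commutes with some conjugate of `x` when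
`t ∤ idx x`. -/
theorem exists_conj_commute [Finite G] {t : ℕ} [Fact t.Prime] {w x : G} (hw : IsPEl t w)
    (hx : ¬ t ∣ idx x) : ∃ g : G, Commute w (g * x * g⁻¹) := by
  classical
  set C := centralizer ({x} : Set G) with hC
  have hP : IsPGroup t (zpowers w) := hw.isPGroup_zpowers
  have hcard : ¬ t ∣ Nat.card (G ⧸ C) := hx
  obtain ⟨q, hq⟩ := hP.nonempty_fixed_point_of_prime_not_dvd_card (G ⧸ C) hcard
  obtain ⟨g, rfl⟩ := QuotientGroup.mk_surjective q
  refine ⟨g, ?_⟩
  have h1 : (⟨w, mem_zpowers w⟩ : zpowers w) • (g : G ⧸ C) = (g : G ⧸ C) := hq _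
  have h2 : ((w * g : G) : G ⧸ C) = (g : G ⧸ C) := h1
  rw [QuotientGroup.eq] at h2
  -- `(w g)⁻¹ g ∈ C`
  have h3 : Commute ((w * g)⁻¹ * g) x := mem_cent_iff.mp h2
  have h4 : (w * g)⁻¹ * g = g⁻¹ * w⁻¹ * g := by group
  rw [h4] at h3
  -- `g⁻¹ w⁻¹ g` commutes with `x`, so `w⁻¹` commutes with `g x g⁻¹`
  have h5 : Commute w⁻¹ (g * x * g⁻¹) := by
    show w⁻¹ * (g * x * g⁻¹) = g * x * g⁻¹ * w⁻¹
    calc w⁻¹ * (g * x * g⁻¹) = g * ((g⁻¹ * w⁻¹ * g) * x) * g⁻¹ := by group
      _ = g * (x * (g⁻¹ * w⁻¹ * g)) * g⁻¹ := by rw [h3.eq]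
      _ = g * x * g⁻¹ * w⁻¹ := by group
  exact (Commute.inv_left_iff).mp h5

end Cfsg.Agent.CS4
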