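import Mathlib
import Cfsg.Agent.CS4.Coprime
import Cfsg.Agent.Helper4.CaminaLemma

set_option autoImplicit false

/-!
# S4146: general consequences of the class-size hypothesis

(G0) primes not dividing `nm` are central, (G2), primary parts, Sylow bookkeeping.
-/

namespace Cfsg.Agent.CS4

open Subgroup
open scoped Pointwise

variable {G : Type*} [Group G] {n m : ℕ}

/-- a divisor of `n` among the class sizes is `1` or `n` -/
theorem CS.eq_of_dvd_n (h : CS G n m) {g : G} (hd : idx g ∣ n) : idx g = 1 ∨ idx g = n := by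
  rcases h.cs g with h1 | h1 | h1 | h1
  · exact Or.inl h1
  · exact Or.inr h1
  · exfalso
    rw [h1] at hd
    have := Nat.Coprime.eq_one_of_dvd h.cop.symm hd
    have := h.hm
    omega
  · exfalso
    rw [h1] at hd
    have h2 : m ∣ n := (dvd_mul_left m n).trans hd
    have := Nat.Coprime.eq_one_of_dvd h.cop.symm h2
    have := h.hm
    omega

/-- a multiple of `n` among the class sizes is `n` or `n * m` -/
theorem CS.eq_of_n_dvd (h : CS G n m) {g : G} (hd : n ∣ idx g) : idx g = n ∨ idx g = n * m := by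
  rcases h.cs g with h1 | h1 | h1 | h1
  · exfalso
    rw [h1] at hd
    have := Nat.eq_one_of_dvd_one hd
    have := h.hn
    omega
  · exact Or.inl h1
  · exfalso
    rw [h1] at hd
    have := Nat.Coprime.eq_one_of_dvd h.cop hd
    have := h.hn
    omega
  · exact Or.inr h1

/-- (G2) -/
theorem CS.cent_le_of_idx_nm [Finite G] (h : CS G n m) {g y : G} (hg : idx g = n * m)
    (hy : Commute g y) (hcop : (orderOf g).Coprime (orderOf y)) :
    centralizer ({g} : Set G) ≤ centralizer ({y} : Set G) := by
  have h1 := cent_mul_of_coprime hy hcop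
  have hle : centralizer ({g * y} : Set G) ≤ centralizer ({g} : Set G) := h1 ▸ inf_le_left
  have hd : idx g ∣ idx (g * y) := index_dvd_of_le hle
  have hidx : idx (g * y) = n * m := by
    rw [hg] at hd
    have hn0 : 0 < n := by have := h.hn; omega
    have hm0 : 0 < m := by have := h.hm; omega
    rcases h.cs (g * y) with h2 | h2 | h2 | h2
    · rw [h2] at hd
      have := Nat.le_of_dvd Nat.one_pos hd
      have := h.hn; have := h.hm
      nlinarith
    · rw [h2] at hd
      have := Nat.le_of_dvd hn0 hd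
      have := h.hm
      nlinarith
    · rw [h2] at hd
      have := Nat.le_of_dvd hm0 hd
      have := h.hn
      nlinarith
    · exact h2
  have heq : centralizer ({g * y} : Set G) = centralizer ({g} : Set G) := by
    have h3 := relIndex_mul_index hle
    rw [show (centralizer ({g * y} : Set G)).index = n * m from hidx,
      show (centralizer ({g} : Set G)).index = n * m from hg] at h3
    have hpos : 0 < n * m := by
      have := h.hn; have := h.hm; positivity
    have h4 : (centralizer ({g * y} : Set G)).relIndex (centralizer ({g} : Set G)) = 1 := by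
      have : (centralizer ({g * y} : Set G)).relIndex (centralizer ({g} : Set G)) * (n * m) =
          1 * (n * m) := by rw [one_mul]; exact h3
      exact Nat.eq_of_mul_eq_mul_right hpos this
    exact le_antisymm hle (relIndex_eq_one.mp h4)
  rw [← heq, h1]
  exact inf_le_right

/-- (G0): elements of prime power order for primes not dividing `n m` are central. -/
theorem CS.mem_center_of_not_dvd [Finite G] (h : CS G n m) {ℓ : ℕ} [hℓ : Fact ℓ.Prime]
    (hℓn : ¬ ℓ ∣ n) (hℓm : ¬ ℓ ∣ m) {u : G} (hu : IsPEl ℓ u) : u ∈ center G := by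
  have hall : ∀ y : G, ¬ ℓ ∣ idx y := by
    intro y
    rcases h.cs y with h1 | h1 | h1 | h1
    · rw [h1]; exact hℓ.out.not_dvd_one
    · rw [h1]; exact hℓn
    · rw [h1]; exact hℓm
    · rw [h1]
      intro hd
      rcases (Nat.Prime.dvd_mul hℓ.out).mp hd with hd | hd
      · exact hℓn hd
      · exact hℓm hd
  obtain ⟨H, -, -, hcard, hcomm⟩ := Cfsg.Agent.Helper4.CaminaLemma.camina (K := G) ℓ
    (fun y _ => hall y)
  have hle : H ≤ centralizer ({u} : Set G) := by
    intro y hy
    rw [mem_centralizer_singleton_iff]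
    exact (hcomm y hy u hu).symm
  have h1 : idx u ∣ H.index := index_dvd_of_le hle
  have h2 : H.index = ℓ ^ (Nat.card G).factorization ℓ := by
    have h3 := H.card_mul_index
    rw [hcard] at h3
    have h4 := Nat.ordProj_mul_ordCompl_eq_self (Nat.card G) ℓ
    have hpos : 0 < ordCompl[ℓ] (Nat.card G) := Nat.ordCompl_pos ℓ Nat.card_pos.ne'
    apply Nat.eq_of_mul_eq_mul_left hpos
    rw [h3, mul_comm, h4]
  rw [h2] at h1
  obtain ⟨i, -, hi⟩ := (Nat.dvd_prime_pow hℓ.out).mp h1
  rw [← idx_eq_one_iff, hi]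
  rcases Nat.eq_zero_or_pos i with rfl | hi0
  · rfl
  · exfalso
    exact hall u (hi ▸ dvd_pow_self ℓ hi0.ne')

/-- a noncentral element has a noncentral power of prime power order -/
theorem exists_primary_noncentral [Finite G] : ∀ (N : ℕ) (g : G), orderOf g = N → g ∉ center G →
    ∃ ℓ : ℕ, ℓ.Prime ∧ ∃ g' ∈ zpowers g, IsPEl ℓ g' ∧ g' ∉ center G := by
  intro N
  induction N using Nat.strong_induction_on with
  | _ N ih =>
    intro g hN hg
    have hg1 : orderOf g ≠ 1 := by
      intro h1
      rw [orderOf_eq_one_iff] at h1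
      exact hg (h1 ▸ one_mem _)
    obtain ⟨r, hr, hrd⟩ := Nat.exists_prime_and_dvd hg1
    obtain ⟨c₁, c₂, hc₁, hc₂, hk, hc₂r, hc⟩ := Cfsg.Agent.Helper4.ItoTwo.exists_parts r hr g
    by_cases h1 : c₁ ∈ center G
    · -- then `c₂` is noncentral of smaller order
      have h2 : c₂ ∉ center G := by
        intro h2
        exact hg (hc ▸ mul_mem h1 h2)
      have hlt : orderOf c₂ < N := by
        have hd : orderOf c₂ ∣ orderOf g := by
          obtain ⟨j, rfl⟩ := mem_zpowers_iff.mp hc₂
          exact orderOf_dvd_of_pow_eq_one (by rw [← zpow_natCast, ← zpow_mul, mul_comm, zpow_mul,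
            zpow_natCast, pow_orderOf_eq_one, one_zpow])
        have hne : orderOf c₂ ≠ orderOf g := fun he => hc₂r (he ▸ hrd)
        rw [← hN]
        exact lt_of_le_of_ne (Nat.le_of_dvd (orderOf_pos g) hd) hne
      obtain ⟨ℓ, hℓ, g', hg', hg'ℓ, hg'c⟩ := ih _ hlt c₂ rfl h2
      exact ⟨ℓ, hℓ, g', (zpowers_le.mpr hc₂) hg', hg'ℓ, hg'c⟩
    · exact ⟨r, hr, c₁, hc₁, hk, h1⟩

/-- there is an element of prime power order and class size `n` -/
theorem CS.exists_primary_idx_n [Finite G] (h : CS G n m) :
    ∃ ℓ : ℕ, ℓ.Prime ∧ ∃ g' : G, IsPEl ℓ g' ∧ idx g' = n := by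
  obtain ⟨g, hg⟩ := h.exn
  have hgc : g ∉ center G := by
    rw [← idx_eq_one_iff, hg]
    have := h.hn; omega
  obtain ⟨ℓ, hℓ, g', hg', hg'ℓ, hg'c⟩ := exists_primary_noncentral _ g rfl hgc
  refine ⟨ℓ, hℓ, g', hg'ℓ, ?_⟩
  have hd : idx g' ∣ n := hg ▸ idx_dvd_of_mem_zpowers hg'
  rcases h.eq_of_dvd_n hd with h1 | h1
  · exact absurd ((idx_eq_one_iff g').mp h1) hg'c
  · exact h1

end Cfsg.Agent.CS4
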