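import Mathlib
import Cfsg.Agent.CS4.Gen

set_option autoImplicit false

/-!
# S4146: Sylow bookkeeping in centralizers
-/

namespace Cfsg.Agent.CS4

open Subgroup
open scoped Pointwise

variable {G : Type*} [Group G]

/-- a `p`-subgroup of `C(g)`, where `p ^ a ∣ idx g`, has order at most `|G|_p / p ^ a`. -/
theorem card_pgroup_cent_dvd [Finite G] {p : ℕ} [hp : Fact p.Prime] {g : G} {a : ℕ}
    (hd : p ^ a ∣ idx g) (S : Subgroup G) (hS : IsPGroup p S)
    (hSg : S ≤ centralizer ({g} : Set G)) :
    Nat.card S * p ^ a ∣ p ^ (Nat.card G).factorization p := by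
  obtain ⟨k, hk⟩ := IsPGroup.iff_card.mp hS
  have h1 : Nat.card S ∣ Nat.card (centralizer ({g} : Set G)) := Subgroup.card_dvd_of_le hSg
  have h2 := (centralizer ({g} : Set G)).card_mul_index
  have h3 : Nat.card S * p ^ a ∣ Nat.card G := by
    rw [← h2]
    exact Nat.mul_dvd_mul h1 hd
  rw [hk, ← pow_add] at h3 ⊢
  exact pow_dvd_pow _ ((hp.out.pow_dvd_iff_le_factorization Nat.card_pos.ne').mp h3)

/-- `C(g)` has a `p`-subgroup of order `|G|_p / p ^ a` when `idx g = p ^ a * N`, `p ∤ N`. -/
theorem exists_pgroup_cent [Finite G] {p : ℕ} [hp : Fact p.Prime] {g : G} {a N : ℕ}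
    (hidx : idx g = p ^ a * N) (hN : ¬ p ∣ N) :
    ∃ S : Subgroup G, IsPGroup p S ∧ S ≤ centralizer ({g} : Set G) ∧
      Nat.card S * p ^ a = p ^ (Nat.card G).factorization p := by
  set C := centralizer ({g} : Set G) with hC
  obtain ⟨Q⟩ : Nonempty (Sylow p C) := inferInstance
  refine ⟨(Q : Subgroup C).map C.subtype, Q.2.map _, Subgroup.map_subtype_le _, ?_⟩
  rw [Subgroup.card_map_of_injective C.subtype_injective, Q.card_eq_multiplicity, ← pow_add]
  congr 1
  have h2 := C.card_mul_index
  have hN0 : N ≠ 0 := fun h0 => hN (h0 ▸ dvd_zero p)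
  have hidx' : C.index = p ^ a * N := hidx
  rw [← h2, hidx', Nat.factorization_mul Nat.card_pos.ne'
    (mul_ne_zero (pow_ne_zero _ hp.out.ne_zero) hN0),
    Nat.factorization_mul (pow_ne_zero _ hp.out.ne_zero) hN0]
  simp [Nat.factorization_eq_zero_of_not_dvd hN, hp.out.factorization_self]

/-- if `p ∤ idx g` then `C(g)` contains a Sylow `p`-subgroup of `G` -/
theorem exists_sylow_le_cent [Finite G] {p : ℕ} [Fact p.Prime] {g : G} (hg : ¬ p ∣ idx g) :
    ∃ P : Sylow p G, (P : Subgroup G) ≤ centralizer ({g} : Set G) :=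
  Cfsg.Agent.Helper4.CaminaLemma.exists_sylow_le_of_not_dvd_index p _ hg

/-- a `p`-element centralizing a Sylow `p`-subgroup lies in it -/
theorem mem_sylow_of_centralizes [Finite G] {p : ℕ} [Fact p.Prime] (P : Sylow p G) {u : G}
    (hu : IsPEl p u) (hc : ∀ v ∈ P, Commute u v) : u ∈ P := by
  have hle : zpowers u ≤ Subgroup.normalizer ((P : Subgroup G) : Set G) := by
    rw [zpowers_le]
    rw [mem_normalizer_iff]
    intro v
    constructor
    · intro hv
      have : u * v * u⁻¹ = v := by rw [(hc v hv).eq]; group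
      rw [this]; exact hv
    · intro hv
      have h1 : Commute u (u * v * u⁻¹) := hc _ hv
      have h2 : v = u⁻¹ * (u * v * u⁻¹) * u := by group
      have h3 : u⁻¹ * (u * v * u⁻¹) * u = u * v * u⁻¹ := by
        rw [mul_assoc, ← h1.eq]; group
      rw [h2, h3]; exact hv
  have hP : IsPGroup p (zpowers u ⊔ (P : Subgroup G) : Subgroup G) :=
    IsPGroup.to_sup_of_normal_right' hu.isPGroup_zpowers P.isPGroup' hle
  have h1 : (P : Subgroup G) ≤ zpowers u ⊔ (P : Subgroup G) := le_sup_right
  have h2 := P.is_maximal' hP h1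
  have h3 : u ∈ zpowers u ⊔ (P : Subgroup G) := (le_sup_left : zpowers u ≤ _) (mem_zpowers u)
  rw [h2] at h3
  exact h3

/-- an element of `q`-power class size: its class is an orbit of any Sylow `q`-subgroup. -/
theorem exists_sylow_conj_of_idx_pow [Finite G] {q : ℕ} [hq : Fact q.Prime] {w : G} {b : ℕ}
    (hw : idx w = q ^ b) (Q : Sylow q G) (g : G) : ∃ c ∈ Q, c * w * c⁻¹ = g * w * g⁻¹ := by
  set C := centralizer ({w} : Set G) with hC
  have hprod := Cfsg.Agent.Helper5.card_mul_set_mul_card_inf (Q : Subgroup G) C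
  have h1 : Nat.card ↥((Q : Subgroup G) ⊓ C) * q ^ b ∣ q ^ (Nat.card G).factorization q :=
    card_pgroup_cent_dvd (hw ▸ dvd_rfl) _ (Q.isPGroup'.to_le inf_le_left) inf_le_right
  have hQ : Nat.card (Q : Subgroup G) = q ^ (Nat.card G).factorization q := Q.card_eq_multiplicity
  rw [← hQ] at h1
  obtain ⟨t, ht⟩ := h1
  have hC2 := C.card_mul_index
  rw [show C.index = q ^ b from hw] at hC2
  have hI : 0 < Nat.card ↥((Q : Subgroup G) ⊓ C) := Nat.card_pos
  -- `|Q C| = t |G|`
  have h3 : Nat.card (((Q : Subgroup G) : Set G) * (C : Set G) : Set G) = t * Nat.card G := by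
    have h4 : Nat.card (((Q : Subgroup G) : Set G) * (C : Set G) : Set G) *
        Nat.card ↥((Q : Subgroup G) ⊓ C) =
        (t * Nat.card G) * Nat.card ↥((Q : Subgroup G) ⊓ C) := by
      rw [hprod, ht, ← hC2]; ring
    exact Nat.eq_of_mul_eq_mul_right hI h4
  have ht1 : t = 1 := by
    have hle : Nat.card (((Q : Subgroup G) : Set G) * (C : Set G) : Set G) ≤ Nat.card G :=
      Nat.card_le_card_of_injective Subtype.val Subtype.val_injective
    have hG : 0 < Nat.card G := Nat.card_pos
    have ht0 : t ≠ 0 := by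
      rintro rfl
      rw [mul_zero] at ht
      have := Nat.card_pos (α := (Q : Subgroup G))
      omega
    rw [h3] at hle
    have : t * Nat.card G ≤ 1 * Nat.card G := by rw [one_mul]; exact hle
    have := Nat.le_of_mul_le_mul_right this hG
    omega
  have huniv : (((Q : Subgroup G) : Set G) * (C : Set G) : Set G) = Set.univ := by
    rw [Set.eq_univ_iff_ncard, ← Nat.card_coe_set_eq, h3, ht1, one_mul]
  have hg : g ∈ (((Q : Subgroup G) : Set G) * (C : Set G) : Set G) := by rw [huniv]; trivial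
  obtain ⟨c, hc, d, hd, rfl⟩ := Set.mem_mul.mp hg
  refine ⟨c, hc, ?_⟩
  have hd' : d * w = w * d := (mem_cent_iff.mp hd).eq
  calc c * w * c⁻¹ = c * (w * d * d⁻¹) * c⁻¹ := by group
    _ = c * (d * w * d⁻¹) * c⁻¹ := by rw [hd']
    _ = c * d * w * (c * d)⁻¹ := by group

/-- class sizes inside `C(x)`: `|C(x) : C(x) ⊓ C(y)| · idx x = idx (x y)` for commuting `x`, `y`
of coprime orders. -/
theorem relIndex_cent_mul [Finite G] {x y : G} (hxy : Commute x y)
    (hcop : (orderOf x).Coprime (orderOf y)) :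
    (centralizer ({y} : Set G)).relIndex (centralizer ({x} : Set G)) * idx x = idx (x * y) := by
  have h1 := cent_mul_of_coprime hxy hcop
  have h2 : (centralizer ({x} : Set G) ⊓ centralizer ({y} : Set G)).relIndex
      (centralizer ({x} : Set G)) * (centralizer ({x} : Set G)).index =
      (centralizer ({x} : Set G) ⊓ centralizer ({y} : Set G)).index :=
    relIndex_mul_index inf_le_left
  rw [inf_relIndex_left] at h2
  rw [show idx (x * y) = (centralizer ({x * y} : Set G)).index from rfl, h1]
  exact h2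

/-- orbits are smaller than classes -/
theorem relIndex_cent_le_idx [Finite G] (y : G) (P : Subgroup G) :
    (centralizer ({y} : Set G)).relIndex P ≤ idx y := by
  have h := relIndex_le_of_le_right (H := centralizer ({y} : Set G)) (le_top : P ≤ ⊤)
    (by rw [relIndex_top_right]; exact index_ne_zero_of_finite)
  rwa [relIndex_top_right] at h

end Cfsg.Agent.CS4
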