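import Mathlib
import Cfsg.Agent.CS4.Syl
import Cfsg.Agent.Helper8.PRegKF

set_option autoImplicit false

/-!
# S4146, package A: working inside a centralizer `H = C(x)`

Transfer of `PReg.m_eq_ppow` and `CaminaLemma.camina` to the subgroup `C(x)`, stated with
elements of `G` only.
-/

namespace Cfsg.Agent.CS4

open Subgroup

variable {G : Type*} [Group G]

/-- the centralizer of an element of a subgroup `H`, computed in `H` -/
theorem centralizer_subtype_eq (H : Subgroup G) (y : H) :
    centralizer ({y} : Set H) = (centralizer ({(y : G)} : Set G)).subgroupOf H := by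
  ext z
  rw [mem_centralizer_singleton_iff, mem_subgroupOf, mem_centralizer_singleton_iff]
  constructor
  · intro h
    have := congrArg Subtype.val h
    simpa using this
  · intro h
    apply Subtype.ext
    simpa using h

/-- class sizes in a subgroup -/
theorem index_centralizer_subtype (H : Subgroup G) (y : H) :
    (centralizer ({y} : Set H)).index = (centralizer ({(y : G)} : Set G)).relIndex H := by
  rw [centralizer_subtype_eq]
  rfl

/-- (M) Let `x` be an `r`-element and suppose every `r`-regular `y ∈ C(x)` has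
`idx (x * y) = idx x` or `idx x * N` (i.e. class size `1` or `N` inside `C(x)`).  If two different
primes `s₁, s₂ ≠ r` have elements of `C(x)` of `sᵢ`-power order not central in `C(x)`, then `N`
is a power of `r`.  (Apply `PReg.m_eq_ppow` to the group `↥(centralizer {x})`.) -/
theorem ppow_of_two_primes [Finite G] {r : ℕ} [Fact r.Prime] {x : G} (hx : IsPEl r x) (N : ℕ)
    (hN : ∀ y ∈ centralizer ({x} : Set G), (orderOf y).Coprime r →
      idx (x * y) = idx x ∨ idx (x * y) = idx x * N)
    {s₁ s₂ : ℕ} (hs₁ : s₁.Prime) (hs₂ : s₂.Prime) (h12 : s₁ ≠ s₂) (h1r : s₁ ≠ r) (h2r : s₂ ≠ r)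
    {y₁ y₂ : G} (hy₁ : y₁ ∈ centralizer ({x} : Set G)) (hy₂ : y₂ ∈ centralizer ({x} : Set G))
    (ho₁ : IsPEl s₁ y₁) (ho₂ : IsPEl s₂ y₂)
    (hnc₁ : ∃ c ∈ centralizer ({x} : Set G), ¬ Commute c y₁)
    (hnc₂ : ∃ c ∈ centralizer ({x} : Set G), ¬ Commute c y₂) :
    ∃ k : ℕ, N = r ^ k := by
  set H := centralizer ({x} : Set G) with hH
  have hr : r.Prime := Fact.out
  have hix : 0 < idx x := idx_pos x
  apply Cfsg.Agent.Helper8.PReg.m_eq_ppow r (Nat.card H) H rfl N
  · intro y hy
    rw [index_centralizer_subtype]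
    have hyo : (orderOf (y : G)).Coprime r := by rwa [Subgroup.orderOf_coe]
    have hxy : Commute x (y : G) := (mem_cent_iff.mp y.2).symm
    have hcop : (orderOf x).Coprime (orderOf (y : G)) := by
      obtain ⟨k, hk⟩ := hx
      rw [hk]
      exact Nat.Coprime.pow_left _ hyo.symm
    have h1 := relIndex_cent_mul hxy hcop
    rcases hN (y : G) y.2 hyo with h2 | h2
    · left
      rw [h2] at h1
      have : (centralizer ({(y : G)} : Set G)).relIndex H * idx x = 1 * idx x := by
        rw [one_mul]; exact h1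
      exact Nat.eq_of_mul_eq_mul_right hix this
    · right
      rw [h2, mul_comm (idx x) N] at h1
      exact Nat.eq_of_mul_eq_mul_right hix h1
  · have hnc : ∀ {s : ℕ} {y : G} (hy : y ∈ H), s.Prime → s ≠ r → IsPEl s y →
        (∃ c ∈ H, ¬ Commute c y) → Cfsg.Agent.Helper8.PReg.NcPrime H r s := by
      intro s y hy hs hsr ho hnc
      refine ⟨hs, hsr, ⟨y, hy⟩, ?_, ?_⟩
      · intro hc
        obtain ⟨c, hc1, hc2⟩ := hnc
        apply hc2
        have := (mem_center_iff.mp hc) ⟨c, hc1⟩
        have h3 := congrArg Subtype.val this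
        exact h3
      · obtain ⟨k, hk⟩ := ho
        exact ⟨k, by rw [Subgroup.orderOf_mk]; exact hk⟩
    exact ⟨s₁, s₂, h12, hnc hy₁ hs₁ h1r ho₁ hnc₁, hnc hy₂ hs₂ h2r ho₂ hnc₂⟩

/-- (M') If all `s`-elements of `C(x)` are central in `C(x)`, then `s` does not divide the size
of any `C(x)`-class (a Sylow `s`-subgroup of `C(x)` lies in `C(x) ⊓ C(g)`). -/
theorem not_dvd_of_central_prime [Finite G] {x g : G} (hg : g ∈ centralizer ({x} : Set G))
    {s : ℕ} [Fact s.Prime]
    (hs : ∀ y ∈ centralizer ({x} : Set G), IsPEl s y →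
      ∀ c ∈ centralizer ({x} : Set G), Commute c y) :
    ¬ s ∣ (centralizer ({g} : Set G)).relIndex (centralizer ({x} : Set G)) := by
  set H := centralizer ({x} : Set G) with hH
  obtain ⟨T⟩ : Nonempty (Sylow s H) := inferInstance
  have hle : (T : Subgroup H) ≤ (centralizer ({g} : Set G)).subgroupOf H := by
    intro z hz
    rw [mem_subgroupOf, mem_cent_iff]
    have hzs : IsPEl s (z : G) := by
      obtain ⟨k, hk⟩ := IsPEl.of_mem T.isPGroup' hz
      exact ⟨k, by rw [← hk, Subgroup.orderOf_coe]⟩
    exact (hs (z : G) z.2 hzs g hg).symm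
  intro hd
  have h1 : ((centralizer ({g} : Set G)).subgroupOf H).index ∣ (T : Subgroup H).index :=
    index_dvd_of_le hle
  exact T.not_dvd_index (hd.trans h1)

/-- (Cam) Let `w` be such that `t` divides the size of no `C(w)`-class of `t`-regular elements.
Then every `t`-element `u ∈ C(w)` has a `C(w)`-class of `t`-power size.
(Apply `CaminaLemma.camina` to `↥(centralizer {w})`: the `t`-regular elements form a normal
subgroup `H` of order `|C(w)|_{t'}` centralized by `u`.) -/
theorem relIndex_pow_of_camina [Finite G] {t : ℕ} [ht : Fact t.Prime] {w : G}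
    (h : ∀ y ∈ centralizer ({w} : Set G), ¬ t ∣ orderOf y →
      ¬ t ∣ (centralizer ({y} : Set G)).relIndex (centralizer ({w} : Set G)))
    {u : G} (hu : u ∈ centralizer ({w} : Set G)) (hut : IsPEl t u) :
    ∃ j : ℕ, (centralizer ({u} : Set G)).relIndex (centralizer ({w} : Set G)) = t ^ j := by
  set M := centralizer ({w} : Set G) with hM
  obtain ⟨H, -, -, hcard, hcomm⟩ := Cfsg.Agent.Helper4.CaminaLemma.camina (K := M) t (by
    intro y hy
    rw [index_centralizer_subtype]
    apply h (y : G) y.2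
    rwa [Subgroup.orderOf_coe])
  have hle : H ≤ centralizer ({(⟨u, hu⟩ : M)} : Set M) := by
    intro y hy
    rw [mem_centralizer_singleton_iff]
    have hut' : ∃ j : ℕ, orderOf (⟨u, hu⟩ : M) = t ^ j := by
      obtain ⟨j, hj⟩ := hut
      exact ⟨j, by rw [Subgroup.orderOf_mk]; exact hj⟩
    exact (hcomm y hy ⟨u, hu⟩ hut').symm
  have h1 : (centralizer ({(⟨u, hu⟩ : M)} : Set M)).index ∣ H.index := index_dvd_of_le hle
  have h2 : H.index = t ^ (Nat.card M).factorization t := by
    have h3 := H.card_mul_index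
    rw [hcard] at h3
    have h4 := Nat.ordProj_mul_ordCompl_eq_self (Nat.card M) t
    have hpos : 0 < ordCompl[t] (Nat.card M) := Nat.ordCompl_pos t Nat.card_pos.ne'
    apply Nat.eq_of_mul_eq_mul_left hpos
    rw [h3, mul_comm, h4]
  rw [h2, index_centralizer_subtype] at h1
  obtain ⟨j, -, hj⟩ := (Nat.dvd_prime_pow ht.out).mp h1
  exact ⟨j, hj⟩

end Cfsg.Agent.CS4
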