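import Mathlib
import Cfsg.Agent.CS4.Syl
import Cfsg.Agent.Helper4.ClassSize

set_option autoImplicit false

/-!
# S4146, package B: the class-product trichotomy

`B = x^G` of size `n`, `C = w^G` of size `m`, `n < m`, and no conjugate of `x` commutes with `w`.
Then `B C` is the class of `x w` (G1), of size `m` (it is `≥ m`, and size `n m` would give
`C(xw) = C(x) ⊓ C(w) ∋ x w`, so `x`, `w` commute).  Hence `b C = B C` for all `b ∈ B`, and
`U := {g | g C = C}` (left multiplication) is a normal subgroup containing `B⁻¹ B`, acting freely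
on `C`, so `|U| ∣ m`; the `U`-orbits on `B` have size dividing `(|U|, n) = 1`, so `U ≤ C(B)`;
`B ⊆ b U`, so the conjugates of `x` commute pairwise.  If `u ∈ U` commutes with `w` then
`u w ∈ C` has the order of `w`, so `u = 1` (orders coprime).  A class inside `U \ {1}` has fewer
than `m` elements, so its size is `1` or `n`, and `1` is impossible.
-/

namespace Cfsg.Agent.CS4

open Subgroup
open scoped Pointwise

variable {G : Type*} [Group G] {n m : ℕ}

/-- the class of `w` as a set -/
def clsSet (w : G) : Set G := {c | ∃ k : G, k * w * k⁻¹ = c}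

theorem self_mem_clsSet (w : G) : w ∈ clsSet w := ⟨1, by simp⟩

theorem conj_mem_clsSet {w c : G} (hc : c ∈ clsSet w) (g : G) : g * c * g⁻¹ ∈ clsSet w := by
  obtain ⟨k, rfl⟩ := hc
  exact ⟨g * k, by group⟩

theorem conj_mem_clsSet_iff {w c : G} (g : G) : g * c * g⁻¹ ∈ clsSet w ↔ c ∈ clsSet w := by
  constructor
  · intro h
    have := conj_mem_clsSet h g⁻¹
    have h2 : g⁻¹ * (g * c * g⁻¹) * g⁻¹⁻¹ = c := by group
    rwa [h2] at this
  · intro h; exact conj_mem_clsSet h g

theorem card_clsSet [Finite G] (w : G) : Nat.card (clsSet w) = idx w := by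
  rw [show idx w = (centralizer ({w} : Set G)).index from rfl,
    Cfsg.Agent.Helper4.index_centralizer_eq_card_conj]
  apply Nat.card_congr
  refine Equiv.subtypeEquivRight ?_
  intro y
  rw [isConj_iff]
  rfl

/-- the left stabilizer of the class of `w` -/
def lstab (w : G) : Subgroup G where
  carrier := {g | ∀ c : G, g * c ∈ clsSet w ↔ c ∈ clsSet w}
  one_mem' := fun c => by rw [one_mul]
  mul_mem' := by
    intro a b ha hb c
    rw [mul_assoc, ha (b * c), hb c]
  inv_mem' := by
    intro a ha c
    have := ha (a⁻¹ * c)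
    rw [mul_inv_cancel_left] at this
    exact this.symm

theorem mem_lstab {w g : G} : g ∈ lstab w ↔ ∀ c : G, g * c ∈ clsSet w ↔ c ∈ clsSet w := Iff.rfl

instance lstab_normal (w : G) : (lstab w).Normal := by
  constructor
  intro g hg k c
  rw [mem_lstab] at hg
  have h1 : k * g * k⁻¹ * c = k * (g * (k⁻¹ * c * k⁻¹⁻¹)) * k⁻¹ := by group
  rw [h1, conj_mem_clsSet_iff, hg, conj_mem_clsSet_iff]

/-- the left stabilizer acts freely on the class: its order divides the class size -/
theorem card_lstab_dvd [Finite G] (w : G) : Nat.card (lstab w) ∣ idx w := by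
  have h1 := Subgroup.card_mul_eq_card_subgroup_mul_card_quotient (lstab w) (clsSet w)
  have h2 : (clsSet w * (lstab w : Set G) : Set G) = clsSet w := by
    ext d
    constructor
    · rintro ⟨c, hc, u, hu, rfl⟩
      have hu' : c * u * c⁻¹ ∈ lstab w := (lstab_normal w).conj_mem u hu c
      have h3 : c * u = c * u * c⁻¹ * c := by group
      show c * u ∈ clsSet w
      rw [h3]
      exact (mem_lstab.mp hu' c).mpr hc
    · intro hd
      exact ⟨d, hd, 1, one_mem _, mul_one d⟩
  rw [h2, card_clsSet] at h1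
  exact ⟨_, h1⟩

/-- `|H| · |K : H| = |K|` -/
theorem card_mul_relIndex_of_le [Finite G] {H K : Subgroup G} (hHK : H ≤ K) :
    Nat.card H * H.relIndex K = Nat.card K := by
  have h1 := (H.subgroupOf K).card_mul_index
  rw [Nat.card_congr (subgroupOfEquivOfLe hHK).toEquiv] at h1
  exact h1

section main

variable [Finite G] (h : CS G n m) (hnm : n < m) {x w : G} (hx : idx x = n) (hw : idx w = m)
  (hnc : ∀ g : G, ¬ Commute (g * x * g⁻¹) w)

include h hnm hx hw hnc

/-- the class of `x' w` has size `m`, for every conjugate `x'` of `x` -/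
theorem idx_conj_mul (g : G) : idx (g * x * g⁻¹ * w) = m := by
  set x' := g * x * g⁻¹ with hx'
  have hx'n : idx x' = n := by rw [hx', idx_conj]; exact hx
  have hcop : (idx x').Coprime (idx w) := by rw [hx'n, hw]; exact h.cop
  have hn0 : 0 < n := by have := h.hn; omega
  have hm0 : 0 < m := by have := h.hm; omega
  -- not `n m`
  have h1 : idx (x' * w) ≠ n * m := by
    intro he
    have hle : centralizer ({x'} : Set G) ⊓ centralizer ({w} : Set G) ≤
        centralizer ({x' * w} : Set G) := by
      intro c hc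
      rw [mem_inf, mem_cent_iff, mem_cent_iff] at hc
      exact mem_cent_iff.mpr (hc.1.mul_right hc.2)
    have hidx := idx_inf_of_coprime hcop
    rw [hx'n, hw] at hidx
    have heq : centralizer ({x'} : Set G) ⊓ centralizer ({w} : Set G) =
        centralizer ({x' * w} : Set G) := by
      apply le_antisymm hle
      have h3 := relIndex_mul_index hle
      rw [hidx, show (centralizer ({x' * w} : Set G)).index = n * m from he] at h3
      have hpos : 0 < n * m := Nat.mul_pos hn0 hm0
      have h4 : (centralizer ({x'} : Set G) ⊓ centralizer ({w} : Set G)).relIndex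
          (centralizer ({x' * w} : Set G)) = 1 := by
        have : (centralizer ({x'} : Set G) ⊓ centralizer ({w} : Set G)).relIndex
            (centralizer ({x' * w} : Set G)) * (n * m) = 1 * (n * m) := by rw [one_mul]; exact h3
        exact Nat.eq_of_mul_eq_mul_right hpos this
      exact relIndex_eq_one.mp h4
    have h5 : x' * w ∈ centralizer ({x'} : Set G) ⊓ centralizer ({w} : Set G) := by
      rw [heq]; exact self_mem_cent _
    have h6 : Commute (x' * w) x' := mem_cent_iff.mp h5.1
    apply hnc g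
    -- `x' w x' = x' x' w`
    have h7 : x' * w * x' = x' * (x' * w) := h6.eq
    have h8 : w * x' = x' * w := by
      have := congrArg (fun t => x'⁻¹ * t) h7
      simpa [mul_assoc] using this
    exact h8.symm
  -- at least `m`
  have h2 : m ≤ idx (x' * w) := by
    have h3 := relIndex_cent_le_idx (x' * w) (centralizer ({x'} : Set G))
    have h4 : (centralizer ({x' * w} : Set G)).relIndex (centralizer ({x'} : Set G)) =
        (centralizer ({w} : Set G)).relIndex (centralizer ({x'} : Set G)) := by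
      rw [← inf_relIndex_right, ← inf_relIndex_right (centralizer ({w} : Set G))]
      congr 1
      ext c
      rw [mem_inf, mem_inf, mem_cent_iff, mem_cent_iff, mem_cent_iff]
      constructor
      · rintro ⟨h5, h6⟩
        refine ⟨?_, h6⟩
        -- `c` commutes with `x' w` and `x'`, hence with `w`
        have h7 : Commute c (x'⁻¹ * (x' * w)) := h6.inv_right.mul_right h5
        rwa [inv_mul_cancel_left] at h7
      · rintro ⟨h5, h6⟩
        exact ⟨h6.mul_right h5, h6⟩
    have h5 := relIndex_of_coprime (centralizer ({w} : Set G)) (centralizer ({x'} : Set G)) hcop.symm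
    rw [h4, h5] at h3
    rwa [show (centralizer ({w} : Set G)).index = m from hw] at h3
  rcases h.cs (x' * w) with h3 | h3 | h3 | h3
  · omega
  · omega
  · exact h3
  · exact absurd h3 h1

omit hnm hnc in
/-- `x' c` is conjugate to `x w`, for a conjugate `x'` of `x` and a conjugate `c` of `w` -/
theorem conj_mul_mem (g : G) {c : G} (hc : c ∈ clsSet w) : g * x * g⁻¹ * c ∈ clsSet (x * w) := by
  have hcop : (idx x).Coprime (idx w) := by rw [hx, hw]; exact h.cop
  obtain ⟨k, rfl⟩ := hc
  -- `x' · k w k⁻¹ = g (x · (g⁻¹ k) w (g⁻¹ k)⁻¹) g⁻¹`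
  obtain ⟨a, ha, hak⟩ := exists_conj_eq_of_coprime hcop (g⁻¹ * k)
  have hax : a * x = x * a := (mem_cent_iff.mp ha).eq
  refine ⟨g * a, ?_⟩
  calc g * a * (x * w) * (g * a)⁻¹ = g * (a * x * w * a⁻¹) * g⁻¹ := by group
    _ = g * (x * (a * w * a⁻¹)) * g⁻¹ := by rw [hax]; group
    _ = g * (x * (g⁻¹ * k * w * (g⁻¹ * k)⁻¹)) * g⁻¹ := by rw [hak]
    _ = g * x * g⁻¹ * (k * w * k⁻¹) := by group

/-- every conjugate of `x w` is `x' c` with `c` conjugate to `w` -/
theorem exists_eq_conj_mul (g : G) {d : G} (hd : d ∈ clsSet (x * w)) :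
    ∃ c ∈ clsSet w, d = g * x * g⁻¹ * c := by
  set x' := g * x * g⁻¹ with hx'
  -- the map `c ↦ x' c` from the class of `w` to the class of `x w` is injective, hence bijective
  let f : clsSet w → clsSet (x * w) := fun c => ⟨x' * c, conj_mul_mem h hx hw g c.2⟩
  have hf : Function.Injective f := by
    intro c₁ c₂ h12
    have := congrArg Subtype.val h12
    exact Subtype.ext (mul_left_cancel this)
  have hcard : Nat.card (clsSet (x * w)) ≤ Nat.card (clsSet w) := by
    rw [card_clsSet, card_clsSet, hw]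
    have := idx_conj_mul h hnm hx hw hnc 1
    simp only [one_mul, inv_one, mul_one] at this
    rw [this]
  have hbij := hf.bijective_of_nat_card_le hcard
  obtain ⟨c, hc⟩ := hbij.2 ⟨d, hd⟩
  exact ⟨c, c.2, (congrArg Subtype.val hc).symm⟩

/-- `x₁⁻¹ x₂` stabilizes the class of `w` -/
theorem inv_mul_mem_lstab (g₁ g₂ : G) : (g₁ * x * g₁⁻¹)⁻¹ * (g₂ * x * g₂⁻¹) ∈ lstab w := by
  have key : ∀ (g₁ g₂ : G) (c : G), c ∈ clsSet w →
      (g₁ * x * g₁⁻¹)⁻¹ * (g₂ * x * g₂⁻¹) * c ∈ clsSet w := by
    intro g₁ g₂ c hc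
    have h1 := conj_mul_mem h hx hw g₂ hc
    obtain ⟨c', hc', he⟩ := exists_eq_conj_mul h hnm hx hw hnc g₁ h1
    rw [mul_assoc, he, inv_mul_cancel_left]
    exact hc'
  rw [mem_lstab]
  intro c
  constructor
  · intro hc
    have := key g₂ g₁ _ hc
    have h2 : (g₂ * x * g₂⁻¹)⁻¹ * (g₁ * x * g₁⁻¹) * ((g₁ * x * g₁⁻¹)⁻¹ * (g₂ * x * g₂⁻¹) * c) = c := by
      group
    rwa [h2] at this
  · intro hc
    exact key g₁ g₂ c hc

omit hnm hnc in
/-- the stabilizer centralizes the conjugates of `x` -/
theorem lstab_le_cent (g : G) : lstab w ≤ centralizer ({g * x * g⁻¹} : Set G) := by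
  set x' := g * x * g⁻¹ with hx'
  set C := centralizer ({x'} : Set G) with hC
  set U := lstab w with hU
  have hx'n : C.index = n := by
    have : idx x' = n := by rw [hx', idx_conj]; exact hx
    exact this
  -- `|C ⊔ U| |C ⊓ U| = |C| |U|`
  have h1 := Cfsg.Agent.Helper5.card_mul_set_mul_card_inf C U
  rw [← Subgroup.mul_normal C U] at h1
  have h1' : Nat.card ↥(C ⊔ U) * Nat.card ↥(C ⊓ U) = Nat.card C * Nat.card U := h1
  -- `|C ⊔ U : C| = |U : C ⊓ U|`
  have h2 : Nat.card C * C.relIndex (C ⊔ U) = Nat.card ↥(C ⊔ U) :=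
    card_mul_relIndex_of_le le_sup_left
  have h3 : Nat.card ↥(C ⊓ U) * (C ⊓ U).relIndex U = Nat.card U :=
    card_mul_relIndex_of_le inf_le_right
  rw [inf_relIndex_right] at h3
  have h4 : C.relIndex (C ⊔ U) = C.relIndex U := by
    have hpos : 0 < Nat.card C * Nat.card ↥(C ⊓ U) := Nat.mul_pos Nat.card_pos Nat.card_pos
    apply Nat.eq_of_mul_eq_mul_left hpos
    calc Nat.card C * Nat.card ↥(C ⊓ U) * C.relIndex (C ⊔ U)
        = (Nat.card C * C.relIndex (C ⊔ U)) * Nat.card ↥(C ⊓ U) := by ring
      _ = Nat.card ↥(C ⊔ U) * Nat.card ↥(C ⊓ U) := by rw [h2]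
      _ = Nat.card C * Nat.card U := h1'
      _ = Nat.card C * (Nat.card ↥(C ⊓ U) * C.relIndex U) := by rw [h3]
      _ = Nat.card C * Nat.card ↥(C ⊓ U) * C.relIndex U := by ring
  have h5 : C.relIndex U ∣ n := by
    rw [← h4, ← hx'n]
    exact relIndex_dvd_index_of_le le_sup_left
  have h6 : C.relIndex U ∣ m := (relIndex_dvd_card C U).trans (hw ▸ card_lstab_dvd w)
  have h7 : C.relIndex U = 1 := Nat.eq_one_of_dvd_one (h.cop ▸ Nat.dvd_gcd h5 h6)
  exact relIndex_eq_one.mp h7

end main

theorem tricho [Finite G] (h : CS G n m) (hnm : n < m) {x w : G} (hx : idx x = n)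
    (hw : idx w = m) (hwo : (orderOf w).Coprime m)
    (hnc : ∀ g : G, ¬ Commute (g * x * g⁻¹) w) :
    ∃ U : Subgroup G, U.Normal ∧ U ≠ ⊥ ∧ Nat.card U ∣ m ∧
      (∀ g k : G, Commute (g * x * g⁻¹) (k * x * k⁻¹)) ∧
      (∀ u ∈ U, Commute u w → u = 1) ∧
      (∀ u ∈ U, u ≠ 1 → idx u = n) := by
  have hm0 : 0 < m := by have := h.hm; omega
  have hdvd : Nat.card (lstab w) ∣ m := hw ▸ card_lstab_dvd w
  -- fixed-point-freeness
  have hfpf : ∀ u ∈ lstab w, Commute u w → u = 1 := by
    intro u hu huw
    have h1 : u * w ∈ clsSet w := (mem_lstab.mp hu w).mpr (self_mem_clsSet w)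
    obtain ⟨k, hk⟩ := h1
    have ho : orderOf (u * w) = orderOf w := by
      rw [← hk, Cfsg.Agent.Helper8.PReg.orderOf_conj]
    have hou : orderOf u ∣ m := by
      have h2 : orderOf (⟨u, hu⟩ : lstab w) ∣ Nat.card (lstab w) := orderOf_dvd_natCard _
      rw [Subgroup.orderOf_mk] at h2
      exact h2.trans hdvd
    have hcop : (orderOf u).Coprime (orderOf w) := (Nat.Coprime.coprime_dvd_left hou hwo.symm)
    exact eq_one_of_orderOf_mul_eq huw hcop ho
  refine ⟨lstab w, lstab_normal w, ?_, hdvd, ?_, hfpf, ?_⟩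
  · -- nontrivial
    intro hbot
    have hxc : x ∉ center G := by
      rw [← idx_eq_one_iff, hx]
      have := h.hn; omega
    rw [mem_center_iff] at hxc
    push Not at hxc
    obtain ⟨g, hg⟩ := hxc
    have h1 := inv_mul_mem_lstab h hnm hx hw hnc 1 g
    rw [hbot, mem_bot] at h1
    simp only [one_mul, inv_one, mul_one] at h1
    apply hg
    have h2 : g * x * g⁻¹ = x := by
      have := congrArg (fun t => x * t) h1
      simpa using this
    calc g * x = g * x * g⁻¹ * g := by group
      _ = x * g := by rw [h2]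
  · intro g k
    have h1 := inv_mul_mem_lstab h hnm hx hw hnc g k
    have h2 := lstab_le_cent h hx hw g h1
    have h3 : Commute ((g * x * g⁻¹)⁻¹ * (k * x * k⁻¹)) (g * x * g⁻¹) := mem_cent_iff.mp h2
    have h4 : Commute (g * x * g⁻¹ * ((g * x * g⁻¹)⁻¹ * (k * x * k⁻¹))) (g * x * g⁻¹) :=
      (Commute.refl _).mul_left h3
    rw [mul_inv_cancel_left] at h4
    exact h4.symm
  · intro u hu hu1
    -- the class of `u` lies in `U \ {1}`
    have hlt : idx u < m := by
      have h1 : clsSet u ⊂ (lstab w : Set G) := by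
        constructor
        · rintro c ⟨k, rfl⟩
          exact (lstab_normal w).conj_mem u hu k
        · intro hsub
          have h2 : (1 : G) ∈ clsSet u := hsub (one_mem _)
          obtain ⟨k, hk⟩ := h2
          apply hu1
          have : u = k⁻¹ * (k * u * k⁻¹) * k := by group
          rw [this, hk]; group
      have h2 := Set.ncard_lt_ncard h1 (Set.toFinite _)
      rw [← Nat.card_coe_set_eq, ← Nat.card_coe_set_eq, card_clsSet] at h2
      exact lt_of_lt_of_le h2 (Nat.le_of_dvd hm0 hdvd)
    rcases h.cs u with h1 | h1 | h1 | h1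
    · exfalso
      apply hu1
      apply hfpf u hu
      have := (idx_eq_one_iff u).mp h1
      exact ((mem_center_iff.mp this) w).symm
    · exact h1
    · omega
    · exfalso
      have := h.hn
      nlinarith

end Cfsg.Agent.CS4
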