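import Mathlib
import Cfsg.Agent.CS4.Rel

set_option autoImplicit false

/-!
# S4146, package C: Lemma F and the PURE / CROSSED dichotomy
-/

namespace Cfsg.Agent.CS4

open Subgroup

variable {G : Type*} [Group G] {n m : ℕ}

/-- some element of prime power order, for a prime dividing `m`, has class size `n` -/
def FlagA (G : Type*) [Group G] (n m : ℕ) : Prop :=
  ∃ (r : ℕ) (x : G), r.Prime ∧ r ∣ m ∧ IsPEl r x ∧ idx x = n

/-- some element of prime power order, for a prime dividing `m`, has class size `m` -/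
def FlagB (G : Type*) [Group G] (m : ℕ) : Prop :=
  ∃ (t : ℕ) (w : G), t.Prime ∧ t ∣ m ∧ IsPEl t w ∧ idx w = m

/-- a prime dividing `m` does not divide `n` -/
theorem CS.not_dvd_n (h : CS G n m) {t : ℕ} (ht : t.Prime) (htm : t ∣ m) : ¬ t ∣ n := by
  intro htn
  have := Nat.dvd_gcd htn htm
  rw [Nat.Coprime.gcd_eq_one h.cop] at this
  exact ht.one_lt.ne' (Nat.eq_one_of_dvd_one this)

/-- a prime power `t ^ k` equal to `n > 1` forces `t ∣ n` -/
theorem dvd_of_eq_pow {t k N : ℕ} (hN : 1 < N) (h : N = t ^ k) : t ∣ N := by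
  rcases Nat.eq_zero_or_pos k with rfl | hk
  · rw [pow_zero] at h; omega
  · rw [h]; exact dvd_pow_self t hk.ne'

/-- (F) an `r`-element `x` of class size `n` and a `t`-element `w` of class size `m`, with
`r ∣ m` and `t ∣ m`, cannot coexist. -/
theorem lemmaF [Finite G] (h : CS G n m) (hA : FlagA G n m) (hB : FlagB G m) : False := by
  obtain ⟨r, x₀, hr, hrm, hx₀, hx₀n⟩ := hA
  obtain ⟨t, w, ht, htm, hw, hwm⟩ := hB
  have : Fact t.Prime := ⟨ht⟩
  have : Fact r.Prime := ⟨hr⟩
  have htn : ¬ t ∣ n := h.not_dvd_n ht htm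
  have hrn : ¬ r ∣ n := h.not_dvd_n hr hrm
  -- wlog `x` commutes with `w`
  obtain ⟨g, hg⟩ := exists_conj_commute (x := x₀) hw (by rw [hx₀n]; exact htn)
  set x := g * x₀ * g⁻¹ with hxdef
  have hx : IsPEl r x := hx₀.conj g
  have hxn : idx x = n := by rw [hxdef, idx_conj]; exact hx₀n
  set M := centralizer ({w} : Set G) with hM
  have hxM : x ∈ M := mem_cent_iff.mpr hg.symm
  have hcopnm : (idx x).Coprime (idx w) := by rw [hxn, hwm]; exact h.cop
  -- class sizes of `t`-regular elements in `M`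
  have hreg : ∀ y ∈ M, ¬ t ∣ orderOf y → idx (w * y) = idx w ∨ idx (w * y) = idx w * n := by
    intro y hy hyt
    have hwy : Commute w y := (mem_cent_iff.mp hy).symm
    have hcop : (orderOf w).Coprime (orderOf y) :=
      hw.coprime_of_not_dvd ht hyt
    have h1 := cent_mul_of_coprime hwy hcop
    have hd : idx w ∣ idx (w * y) := index_dvd_of_le (h1 ▸ inf_le_left)
    rw [hwm] at hd ⊢
    rcases h.symm.eq_of_n_dvd hd with h2 | h2
    · exact Or.inl h2
    · exact Or.inr h2
  have hrel : ∀ y ∈ M, ¬ t ∣ orderOf y →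
      (centralizer ({y} : Set G)).relIndex M = 1 ∨ (centralizer ({y} : Set G)).relIndex M = n := by
    intro y hy hyt
    have hwy : Commute w y := (mem_cent_iff.mp hy).symm
    have hcop : (orderOf w).Coprime (orderOf y) := hw.coprime_of_not_dvd ht hyt
    have h1 := relIndex_cent_mul hwy hcop
    have hiw : 0 < idx w := idx_pos w
    rcases hreg y hy hyt with h2 | h2
    · left
      rw [h2] at h1
      have : (centralizer ({y} : Set G)).relIndex M * idx w = 1 * idx w := by rw [one_mul]; exact h1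
      exact Nat.eq_of_mul_eq_mul_right hiw this
    · right
      rw [h2, mul_comm (idx w) n] at h1
      exact Nat.eq_of_mul_eq_mul_right hiw h1
  -- the class of `x` in `M` has size `n`
  have hxrel : (centralizer ({x} : Set G)).relIndex M = n := by
    have := relIndex_of_coprime (centralizer ({x} : Set G)) M hcopnm
    rw [this]; exact hxn
  -- `x` is not central in `M`
  have hxnc : ∃ c ∈ M, ¬ Commute c x := by
    by_contra hcon
    push Not at hcon
    have hle : M ≤ centralizer ({x} : Set G) := fun c hc => mem_cent_iff.mpr (hcon c hc)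
    have := relIndex_eq_one.mpr hle
    rw [hxrel] at this
    have := h.hn
    omega
  by_cases hrt : r = t
  · -- Camina's lemma
    subst hrt
    obtain ⟨j, hj⟩ := relIndex_pow_of_camina (w := w) (t := r) (by
      intro y hy hyt
      rcases hrel y hy hyt with h1 | h1
      · rw [h1]; exact hr.not_dvd_one
      · rw [h1]; exact htn) hxM hx
    rw [hxrel] at hj
    exact htn (dvd_of_eq_pow h.hn hj)
  · by_cases hex : ∃ (s : ℕ) (y : G), s.Prime ∧ s ≠ r ∧ s ≠ t ∧ y ∈ M ∧ IsPEl s y ∧
        ∃ c ∈ M, ¬ Commute c y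
    · obtain ⟨s, y, hs, hsr, hst, hyM, hys, hync⟩ := hex
      obtain ⟨k, hk⟩ := ppow_of_two_primes (r := t) (x := w) hw n
        (fun y hy hyt => hreg y hy
          (fun hd => ht.one_lt.ne' (Nat.eq_one_of_dvd_one
            ((Nat.Coprime.gcd_eq_one hyt) ▸ Nat.dvd_gcd hd dvd_rfl))))
        hr hs (Ne.symm hsr) hrt hst hxM hyM hx hys hxnc hync
      exact htn (dvd_of_eq_pow h.hn hk)
    · push Not at hex
      obtain ⟨s, hs, hsn⟩ := Nat.exists_prime_and_dvd (by have := h.hn; omega : n ≠ 1)
      have : Fact s.Prime := ⟨hs⟩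
      have hsr : s ≠ r := fun he => hrn (he ▸ hsn)
      have hst : s ≠ t := fun he => htn (he ▸ hsn)
      have := not_dvd_of_central_prime (x := w) (g := x) hxM (s := s) (by
        intro y hy hys c hc
        exact hex s y hs hsr hst hy hys c hc)
      rw [hxrel] at this
      exact this hsn

/-- PURE or CROSSED. -/
theorem dichotomy [Finite G] (h : CS G n m) :
    (FlagB G m ∧ FlagB G n) ∨
      (FlagA G n m ∧ FlagA G m n ∧ ¬ FlagB G m ∧ ¬ FlagB G n) := by
  have key : ∀ {n m : ℕ}, CS G n m → FlagA G n m ∨ FlagB G n := by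
    intro n m h
    obtain ⟨ℓ, hℓ, g', hg'ℓ, hg'n⟩ := h.exists_primary_idx_n
    have : Fact ℓ.Prime := ⟨hℓ⟩
    by_cases h1 : ℓ ∣ m
    · exact Or.inl ⟨ℓ, g', hℓ, h1, hg'ℓ, hg'n⟩
    · by_cases h2 : ℓ ∣ n
      · exact Or.inr ⟨ℓ, g', hℓ, h2, hg'ℓ, hg'n⟩
      · exfalso
        have hc := h.mem_center_of_not_dvd h2 h1 hg'ℓ
        rw [← idx_eq_one_iff, hg'n] at hc
        have := h.hn
        omega
  have h1 := key h
  have h2 := key h.symm
  by_cases hB : FlagB G m
  · by_cases hB' : FlagB G n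
    · exact Or.inl ⟨hB, hB'⟩
    · rcases h1 with h1 | h1
      · exact (lemmaF h h1 hB).elim
      · exact absurd h1 hB'
  · by_cases hB' : FlagB G n
    · rcases h2 with h2 | h2
      · exact (lemmaF h.symm h2 hB').elim
      · exact absurd h2 hB
    · rcases h1 with h1 | h1
      · rcases h2 with h2 | h2
        · exact Or.inr ⟨h1, h2, hB, hB'⟩
        · exact absurd h2 hB
      · exact absurd h1 hB'

end Cfsg.Agent.CS4
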