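import Mathlib
import Cfsg.Agent.CS4.Flags

set_option autoImplicit false

/-!
# S4146, package E: the CROSSED case — the counting lemma and the reduction to prime powers

CROSSED: for a prime `r ∣ m` the `r`-elements have class size `1`, `n` or `n m` (never `m`), and
some `r`-element has class size `n`; symmetrically for primes dividing `n`.
-/

namespace Cfsg.Agent.CS4

open Subgroup

variable {G : Type*} [Group G] {n m : ℕ}

/-- the CROSSED configuration -/
structure Crossed (G : Type*) [Group G] (n m : ℕ) : Prop extends CS G n m where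
  exA : FlagA G n m
  exA' : FlagA G m n
  noB : ¬ FlagB G m
  noB' : ¬ FlagB G n

theorem Crossed.symm (h : Crossed G n m) : Crossed G m n where
  toCS := h.toCS.symm
  exA := h.exA'
  exA' := h.exA
  noB := h.noB'
  noB' := h.noB

/-- in CROSSED, a `t`-element with `t ∣ m` has class size `1`, `n` or `n m` -/
theorem Crossed.idx_of_dvd_m (h : Crossed G n m) {t : ℕ} (ht : t.Prime) (htm : t ∣ m) {y : G}
    (hy : IsPEl t y) : idx y = 1 ∨ idx y = n ∨ idx y = n * m := by
  rcases h.cs y with h1 | h1 | h1 | h1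
  · exact Or.inl h1
  · exact Or.inr (Or.inl h1)
  · exact absurd ⟨t, y, ht, htm, hy, h1⟩ h.noB
  · exact Or.inr (Or.inr h1)

/-- in CROSSED, an `s`-element with `s ∣ n` has class size `1`, `m` or `n m` -/
theorem Crossed.idx_of_dvd_n (h : Crossed G n m) {s : ℕ} (hs : s.Prime) (hsn : s ∣ n) {y : G}
    (hy : IsPEl s y) : idx y = 1 ∨ idx y = m ∨ idx y = n * m := by
  rcases h.symm.idx_of_dvd_m hs hsn hy with h1 | h1 | h1
  · exact Or.inl h1
  · exact Or.inr (Or.inl h1)
  · exact Or.inr (Or.inr (by rw [h1, mul_comm]))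

/-- a prime `t` divides `|K : Z(G)|` iff `K` has a noncentral `t`-element (`Z(G) ≤ K`). -/
theorem dvd_relIndex_center_iff [Finite G] (K : Subgroup G) (_hK : center G ≤ K) {t : ℕ}
    [ht : Fact t.Prime] :
    t ∣ (center G).relIndex K ↔ ∃ y ∈ K, IsPEl t y ∧ y ∉ center G := by
  constructor
  · intro hd
    by_contra hcon
    push Not at hcon
    obtain ⟨T⟩ : Nonempty (Sylow t K) := inferInstance
    have hle : (T : Subgroup K) ≤ (center G).subgroupOf K := by
      intro z hz
      rw [mem_subgroupOf]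
      apply hcon (z : G) z.2
      obtain ⟨k, hk⟩ := IsPEl.of_mem T.isPGroup' hz
      exact ⟨k, by rw [← hk, Subgroup.orderOf_coe]⟩
    have h1 : ((center G).subgroupOf K).index ∣ (T : Subgroup K).index := index_dvd_of_le hle
    exact T.not_dvd_index (hd.trans h1)
  · rintro ⟨y, hy, ⟨k, hk⟩, hyc⟩
    have hN : ((center G).subgroupOf K).Normal := inferInstance
    set q : K ⧸ (center G).subgroupOf K := QuotientGroup.mk' _ ⟨y, hy⟩ with hq
    have hq1 : q ≠ 1 := by
      intro h1
      rw [hq, QuotientGroup.mk'_apply, QuotientGroup.eq_one_iff, mem_subgroupOf] at h1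
      exact hyc h1
    have ho : orderOf q ∣ t ^ k := by
      have h1 : orderOf q ∣ orderOf (⟨y, hy⟩ : K) := orderOf_map_dvd _ _
      rwa [Subgroup.orderOf_mk, hk] at h1
    obtain ⟨j, -, hj⟩ := (Nat.dvd_prime_pow ht.out).mp ho
    have hj0 : j ≠ 0 := by
      rintro rfl
      rw [pow_zero, orderOf_eq_one_iff] at hj
      exact hq1 hj
    have h2 : t ∣ orderOf q := hj ▸ dvd_pow_self t hj0
    exact h2.trans (orderOf_dvd_natCard q)

/-- (★) the counting lemma.  CROSSED, `x` an `r`-element (`r ∣ m`) of class size `n`, and every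
element of `C(x)` of prime power order for a prime dividing `n` is central in `G`.  Then `False`. -/
theorem star_false [Finite G] (h : Crossed G n m) {r : ℕ} (hr : r.Prime) (hrm : r ∣ m) {x : G}
    (hx : IsPEl r x) (hxn : idx x = n)
    (hstar : ∀ y ∈ centralizer ({x} : Set G), ∀ s : ℕ, s.Prime → s ∣ n → IsPEl s y →
      y ∈ center G) : False := by
  set Z := center G with hZ
  set H := centralizer ({x} : Set G) with hH
  have hn0 : 0 < n := by have := h.hn; omega
  have hm0 : 0 < m := by have := h.hm; omega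
  have hZle : ∀ g : G, Z ≤ centralizer ({g} : Set G) := fun g => center_le_centralizer _
  -- (a)
  have ha : ∀ s : ℕ, s.Prime → s ∣ n → ¬ s ∣ Z.relIndex H := by
    intro s hs hsn hd
    have : Fact s.Prime := ⟨hs⟩
    obtain ⟨y, hy, hys, hyc⟩ := (dvd_relIndex_center_iff H (hZle x)).mp hd
    exact hyc (hstar y hy s hs hsn hys)
  -- (b)
  have hb : Z.relIndex H * n = Z.index := by
    have := relIndex_mul_index (hZle x)
    rwa [show H.index = n from hxn] at this
  -- (ε)
  have heps : ∀ K : Subgroup G, Z ≤ K → n ∣ K.index → Z.relIndex K ∣ Z.relIndex H := by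
    intro K hK hd
    obtain ⟨c, hc⟩ := hd
    have h1 := relIndex_mul_index hK
    rw [hc, ← hb] at h1
    refine ⟨c, ?_⟩
    have h2 : Z.relIndex K * c * n = Z.relIndex H * n := by rw [← h1]; ring
    exact (Nat.eq_of_mul_eq_mul_right hn0 h2).symm
  -- the element `w`
  obtain ⟨s₀, w, hs₀, hs₀n, hw, hwm⟩ := h.exA'
  have : Fact s₀.Prime := ⟨hs₀⟩
  have hwc : w ∉ Z := by
    rw [← idx_eq_one_iff, hwm]
    have := h.hm
    omega
  -- (c)
  have hc : ∀ t : ℕ, t.Prime → t ∣ m → ∀ y ∈ centralizer ({w} : Set G), IsPEl t y → y ∈ Z := by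
    intro t ht htm y hy hyt
    by_contra hyc
    have hidx : n ∣ idx y := by
      rcases h.idx_of_dvd_m ht htm hyt with h1 | h1 | h1
      · exact absurd ((idx_eq_one_iff y).mp h1) hyc
      · rw [h1]
      · rw [h1]; exact dvd_mul_right n m
    have hwy : w ∈ centralizer ({y} : Set G) := mem_cent_iff.mpr (mem_cent_iff.mp hy).symm
    have h1 : s₀ ∣ Z.relIndex (centralizer ({y} : Set G)) :=
      (dvd_relIndex_center_iff _ (hZle y)).mpr ⟨w, hwy, hw, hwc⟩
    exact ha s₀ hs₀ hs₀n (h1.trans (heps _ (hZle y) hidx))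
  -- (d)
  have hd : ∀ t : ℕ, t.Prime → t ∣ m → ¬ t ∣ Z.relIndex (centralizer ({w} : Set G)) := by
    intro t ht htm hdv
    have : Fact t.Prime := ⟨ht⟩
    obtain ⟨y, hy, hyt, hyc⟩ := (dvd_relIndex_center_iff _ (hZle w)).mp hdv
    exact hyc (hc t ht htm y hy hyt)
  -- (e)
  have he : Z.relIndex (centralizer ({w} : Set G)) * m = Z.index := by
    have := relIndex_mul_index (hZle w)
    rwa [show (centralizer ({w} : Set G)).index = m from hwm] at this
  -- an element of class size `n m`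
  obtain ⟨g, hg⟩ := h.exnm
  have hgc : g ∉ Z := by
    rw [← idx_eq_one_iff, hg]
    have := h.hn; have := h.hm
    nlinarith
  have hf : Z.relIndex (centralizer ({g} : Set G)) * (n * m) = Z.index := by
    have := relIndex_mul_index (hZle g)
    rwa [show (centralizer ({g} : Set G)).index = n * m from hg] at this
  have hc1 : Z.relIndex (centralizer ({g} : Set G)) ∣ Z.relIndex H := by
    refine ⟨m, ?_⟩
    have h2 : Z.relIndex (centralizer ({g} : Set G)) * m * n = Z.relIndex H * n := by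
      rw [hb, ← hf]; ring
    exact (Nat.eq_of_mul_eq_mul_right hn0 h2).symm
  have hc2 : Z.relIndex (centralizer ({g} : Set G)) ∣ Z.relIndex (centralizer ({w} : Set G)) := by
    refine ⟨n, ?_⟩
    have h2 : Z.relIndex (centralizer ({g} : Set G)) * n * m =
        Z.relIndex (centralizer ({w} : Set G)) * m := by
      rw [he, ← hf]; ring
    exact (Nat.eq_of_mul_eq_mul_right hm0 h2).symm
  obtain ⟨ℓ, hℓ, g', hg', hg'ℓ, hg'c⟩ := exists_primary_noncentral _ g rfl hgc
  have : Fact ℓ.Prime := ⟨hℓ⟩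
  have hg'g : g' ∈ centralizer ({g} : Set G) := by
    have h1 : g ∈ centralizer ({g'} : Set G) :=
      Cfsg.Agent.Helper4.ItoTwo.centralizer_le_of_mem_zpowers hg' (self_mem_cent g)
    exact mem_cent_iff.mpr (mem_cent_iff.mp h1).symm
  have hℓc : ℓ ∣ Z.relIndex (centralizer ({g} : Set G)) :=
    (dvd_relIndex_center_iff _ (hZle g)).mpr ⟨g', hg'g, hg'ℓ, hg'c⟩
  by_cases hℓn : ℓ ∣ n
  · exact ha ℓ hℓ hℓn (hℓc.trans hc1)
  · by_cases hℓm : ℓ ∣ m
    · exact hd ℓ hℓ hℓm (hℓc.trans hc2)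
    · exact hg'c (h.mem_center_of_not_dvd hℓn hℓm hg'ℓ)

/-- CROSSED implies `m` is a prime power (and `n`, by `Crossed.symm`). -/
theorem crossed_ppow [Finite G] (h : Crossed G n m) :
    ∃ (r : ℕ) (k : ℕ), r.Prime ∧ m = r ^ k := by
  obtain ⟨r, x, hr, hrm, hx, hxn⟩ := h.exA
  have : Fact r.Prime := ⟨hr⟩
  refine ⟨r, ?_⟩
  set H := centralizer ({x} : Set G) with hH
  have hn0 : 0 < n := by have := h.hn; omega
  have hm0 : 0 < m := by have := h.hm; omega
  -- an `s`-element of `H`, `s ∣ n`, not central in `G`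
  have hex0 : ∃ y₀ ∈ H, ∃ s : ℕ, s.Prime ∧ s ∣ n ∧ IsPEl s y₀ ∧ y₀ ∉ center G := by
    by_contra hcon
    push Not at hcon
    exact star_false h hr hrm hx hxn (fun y hy s hs hsn hys => hcon y hy s hs hsn hys)
  obtain ⟨y₀, hy₀, s, hs, hsn, hy₀s, hy₀c⟩ := hex0
  have : Fact s.Prime := ⟨hs⟩
  have hsm : ¬ s ∣ m := fun hd => h.toCS.symm.not_dvd_n hs hsn hd
  have hsr : s ≠ r := fun he => hsm (he ▸ hrm)
  have hmy₀ : m ∣ idx y₀ := by
    rcases h.idx_of_dvd_n hs hsn hy₀s with h1 | h1 | h1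
    · exact absurd ((idx_eq_one_iff y₀).mp h1) hy₀c
    · rw [h1]
    · rw [h1]; exact dvd_mul_left m n
  -- `y₀` is not central in `H`
  have hy₀nc : ∃ c ∈ H, ¬ Commute c y₀ := by
    by_contra hcon
    push Not at hcon
    have hle : H ≤ centralizer ({y₀} : Set G) := fun c hc => mem_cent_iff.mpr (hcon c hc)
    have hd : idx y₀ ∣ n := hxn ▸ index_dvd_of_le hle
    have hmn : m ∣ n := hmy₀.trans hd
    have := Nat.Coprime.eq_one_of_dvd h.cop.symm hmn
    have := h.hm
    omega
  -- class sizes in `H`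
  have hN : ∀ y ∈ H, (orderOf y).Coprime r → idx (x * y) = idx x ∨ idx (x * y) = idx x * m := by
    intro y hy hyr
    have hxy : Commute x y := (mem_cent_iff.mp hy).symm
    have hcop : (orderOf x).Coprime (orderOf y) := by
      obtain ⟨k, hk⟩ := hx
      rw [hk]; exact Nat.Coprime.pow_left _ hyr.symm
    have h1 := cent_mul_of_coprime hxy hcop
    have hd : idx x ∣ idx (x * y) := index_dvd_of_le (h1 ▸ inf_le_left)
    rw [hxn] at hd ⊢
    exact h.eq_of_n_dvd hd
  -- the class of `y₀` in `H` has size `m`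
  have hrel : (centralizer ({y₀} : Set G)).relIndex H = m := by
    have hxy : Commute x y₀ := (mem_cent_iff.mp hy₀).symm
    have hcop : (orderOf x).Coprime (orderOf y₀) := hx.coprime hr hs (Ne.symm hsr) hy₀s
    have h1 := relIndex_cent_mul hxy hcop
    have hyr : (orderOf y₀).Coprime r := by
      obtain ⟨k, hk⟩ := hy₀s
      rw [hk]; exact Nat.Coprime.pow_left _ ((Nat.coprime_primes hs hr).mpr hsr)
    rcases hN y₀ hy₀ hyr with h2 | h2
    · exfalso
      rw [h2] at h1
      have h3 : (centralizer ({y₀} : Set G)).relIndex H * idx x = 1 * idx x := by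
        rw [one_mul]; exact h1
      have h4 := Nat.eq_of_mul_eq_mul_right (idx_pos x) h3
      obtain ⟨c, hc, hcy⟩ := hy₀nc
      exact hcy (mem_cent_iff.mp (relIndex_eq_one.mp h4 hc))
    · rw [h2, mul_comm (idx x) m] at h1
      exact Nat.eq_of_mul_eq_mul_right (idx_pos x) h1
  by_cases hex : ∃ (s' : ℕ) (y : G), s'.Prime ∧ s' ≠ r ∧ s' ≠ s ∧ y ∈ H ∧ IsPEl s' y ∧
      ∃ c ∈ H, ¬ Commute c y
  · obtain ⟨s', y, hs', hs'r, hs's, hyH, hys', hync⟩ := hex
    obtain ⟨k, hk⟩ := ppow_of_two_primes (r := r) (x := x) hx m hN hs hs' (Ne.symm hs's) hsr hs'r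
      hy₀ hyH hy₀s hys' hy₀nc hync
    exact ⟨k, hr, hk⟩
  · push Not at hex
    refine ⟨m.primeFactorsList.length, hr, ?_⟩
    apply Nat.eq_prime_pow_of_unique_prime_dvd hm0.ne'
    intro ℓ hℓ hℓm
    by_contra hℓr
    have : Fact ℓ.Prime := ⟨hℓ⟩
    have hℓs : ℓ ≠ s := fun he => hsm (he ▸ hℓm)
    have := not_dvd_of_central_prime (x := x) (g := y₀) hy₀ (s := ℓ) (by
      intro y hy hyℓ c hc
      exact hex ℓ y hℓ hℓr hℓs hy hyℓ c hc)
    rw [hrel] at this
    exact this hℓm

end Cfsg.Agent.CS4
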