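import Mathlib
import Cfsg.Agent.CS4.Star
import Cfsg.Agent.Helper4.ConjUnion

set_option autoImplicit false

/-!
# S4146, package F: prime-power CROSSED — the union trick

`n = p ^ a`, `m = q ^ b`: `q`-elements have class size `1`, `p ^ a`, `p ^ a q ^ b`; `p`-elements
`1`, `q ^ b`, `p ^ a q ^ b`.  Everything here is symmetric under `(p, a) ↔ (q, b)`.
-/

namespace Cfsg.Agent.CS4

open Subgroup

variable {G : Type*} [Group G] {p q a b : ℕ}

/-- prime-power CROSSED -/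
structure CrossedPP (G : Type*) [Group G] (p q a b : ℕ) : Prop where
  hp : p.Prime
  hq : q.Prime
  hpq : p ≠ q
  cr : Crossed G (p ^ a) (q ^ b)

theorem CrossedPP.symm (h : CrossedPP G p q a b) : CrossedPP G q p b a where
  hp := h.hq
  hq := h.hp
  hpq := h.hpq.symm
  cr := h.cr.symm

theorem CrossedPP.a_pos (h : CrossedPP G p q a b) : 0 < a := by
  rcases Nat.eq_zero_or_pos a with rfl | h0
  · have := h.cr.hn; simp at this
  · exact h0

theorem CrossedPP.b_pos (h : CrossedPP G p q a b) : 0 < b := h.symm.a_pos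

/-- a `q`-element has class size `1`, `p ^ a` or `p ^ a * q ^ b` -/
theorem CrossedPP.idx_q (h : CrossedPP G p q a b) {y : G} (hy : IsPEl q y) :
    idx y = 1 ∨ idx y = p ^ a ∨ idx y = p ^ a * q ^ b :=
  h.cr.idx_of_dvd_m h.hq (dvd_pow_self q h.b_pos.ne') hy

/-- a `p`-element has class size `1`, `q ^ b` or `p ^ a * q ^ b` -/
theorem CrossedPP.idx_p (h : CrossedPP G p q a b) {u : G} (hu : IsPEl p u) :
    idx u = 1 ∨ idx u = q ^ b ∨ idx u = p ^ a * q ^ b :=
  h.cr.idx_of_dvd_n h.hp (dvd_pow_self p h.a_pos.ne') hu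

/-- there is a `q`-element of class size `p ^ a` -/
theorem CrossedPP.exists_q (h : CrossedPP G p q a b) : ∃ x₁ : G, IsPEl q x₁ ∧ idx x₁ = p ^ a := by
  obtain ⟨r, x, hr, hrm, hx, hxn⟩ := h.cr.exA
  have : r = q := (Nat.prime_dvd_prime_iff_eq hr h.hq).mp (hr.dvd_of_dvd_pow hrm)
  subst this
  exact ⟨x, hx, hxn⟩

/-- there is a `p`-element of class size `q ^ b` -/
theorem CrossedPP.exists_p (h : CrossedPP G p q a b) : ∃ w₁ : G, IsPEl p w₁ ∧ idx w₁ = q ^ b :=
  h.symm.exists_q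

/-- conjugating a commuting pair -/
theorem cs4u_commute_conj {x y : G} (hxy : Commute x y) (g : G) :
    Commute (g * x * g⁻¹) (g * y * g⁻¹) := by
  have h1 : g * x * g⁻¹ * (g * y * g⁻¹) = g * (x * y) * g⁻¹ := by group
  have h2 : g * y * g⁻¹ * (g * x * g⁻¹) = g * (y * x) * g⁻¹ := by group
  show g * x * g⁻¹ * (g * y * g⁻¹) = g * y * g⁻¹ * (g * x * g⁻¹)
  rw [h1, h2, hxy.eq]

/-- (L∪) If a `q`-element `x₁` of class size `p ^ a` commutes with a `p`-element `w₁` of class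
size `q ^ b`, then every `q`-element `y` of class size `p ^ a q ^ b` commutes with a conjugate of
`w₁`.
Proof: `y` commutes with a conjugate `x'` of `x₁` (`exists_conj_commute`).  Let `A ≤ C(y)` be a
`p`-subgroup of order `|G|_p / p ^ a` (`exists_pgroup_cent`).  By (G2) (`CS.cent_le_of_idx_nm`)
`C(y) ≤ C(u)` for every `u ∈ A`, so `A ≤ C(x')`.  Let `P ≤ C(w₁)` be a Sylow `p`-subgroup of `G`
(`exists_sylow_le_cent`), `A ≤ g P g⁻¹`; `w' = g w₁ g⁻¹` centralizes `A` and commutes with `x'`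
(`commute_conj_of_commute`).  `A ⊔ zpowers w'` is a `p`-subgroup of `C(x')`, so its order is at
most `|G|_p / p ^ a = |A|` (`card_pgroup_cent_dvd`); hence `w' ∈ A ≤ C(y)`. -/
theorem CrossedPP.l_union [Finite G] (h : CrossedPP G p q a b) {x₁ w₁ y : G}
    (hx₁ : IsPEl q x₁) (hx₁i : idx x₁ = p ^ a) (hw₁ : IsPEl p w₁) (hw₁i : idx w₁ = q ^ b)
    (hc : Commute x₁ w₁) (hy : IsPEl q y) (hyi : idx y = p ^ a * q ^ b) :
    ∃ g : G, Commute y (g * w₁ * g⁻¹) := by
  classical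
  have : Fact p.Prime := ⟨h.hp⟩
  have : Fact q.Prime := ⟨h.hq⟩
  have hqp : ¬ q ∣ p ^ a := fun hd => h.hpq ((Nat.prime_dvd_prime_iff_eq h.hq h.hp).mp
    (h.hq.dvd_of_dvd_pow hd)).symm
  have hpq' : ¬ p ∣ q ^ b := fun hd => h.hpq ((Nat.prime_dvd_prime_iff_eq h.hp h.hq).mp
    (h.hp.dvd_of_dvd_pow hd))
  -- a conjugate of `x₁` commuting with `y`
  obtain ⟨g₁, hg₁⟩ := exists_conj_commute (t := q) (w := y) (x := x₁) hy (by rw [hx₁i]; exact hqp)
  set x' := g₁ * x₁ * g₁⁻¹ with hx'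
  have hx'i : idx x' = p ^ a := by rw [hx', idx_conj, hx₁i]
  -- the `p`-subgroup `A ≤ C(y)`
  obtain ⟨A, hAp, hAy, hAc⟩ := exists_pgroup_cent (p := p) (g := y) (a := a) (N := q ^ b) hyi hpq'
  -- `A ≤ C(x')`
  have hAx : A ≤ centralizer ({x'} : Set G) := by
    intro u hu
    have huy : Commute y u := (mem_cent_iff.mp (hAy hu)).symm
    have hup : IsPEl p u := IsPEl.of_mem hAp hu
    have hle := h.cr.toCS.cent_le_of_idx_nm hyi huy (IsPEl.coprime h.hq h.hp h.hpq.symm hy hup)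
    have hx'y : x' ∈ centralizer ({y} : Set G) := mem_cent_iff.mpr hg₁.symm
    have := mem_cent_iff.mp (hle hx'y)
    exact mem_cent_iff.mpr this.symm
  -- Sylow `p`-subgroup in `C(w₁)`
  obtain ⟨P, hP⟩ := exists_sylow_le_cent (p := p) (g := w₁) (by rw [hw₁i]; exact hpq')
  have hw₁P : w₁ ∈ P := mem_sylow_of_centralizes P hw₁
    (fun v hv => (mem_cent_iff.mp (hP hv)).symm)
  obtain ⟨P', hP'⟩ := hAp.exists_le_sylow
  obtain ⟨g, hg⟩ := MulAction.exists_smul_eq G P P'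
  set w' := g * w₁ * g⁻¹ with hw'
  have hw'P : w' ∈ (P' : Subgroup G) := by
    rw [← hg, Sylow.coe_subgroup_smul]
    have := Subgroup.smul_mem_pointwise_smul w₁ (MulAut.conj g) (P : Subgroup G) hw₁P
    rwa [MulAut.smul_def, MulAut.conj_apply] at this
  have hcop : (idx x₁).Coprime (idx w₁) := by
    rw [hx₁i, hw₁i]
    exact Nat.Coprime.pow _ _ ((Nat.coprime_primes h.hp h.hq).mpr h.hpq)
  have hw'x : Commute x' w' := commute_conj_of_commute (x := x₁) (w := w₁) hcop hc g₁ g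
  -- `B = P' ⊓ C(x')` is a `p`-subgroup of `C(x')` containing `A` and `w'`
  set B : Subgroup G := (P' : Subgroup G) ⊓ centralizer ({x'} : Set G) with hB
  have hBp : IsPGroup p B := P'.isPGroup'.to_le inf_le_left
  have hAB : A ≤ B := le_inf hP' hAx
  have hBc : Nat.card B * p ^ a ∣ p ^ (Nat.card G).factorization p :=
    card_pgroup_cent_dvd (g := x') (a := a) (by rw [hx'i]) B hBp inf_le_right
  have hle : Nat.card B ≤ Nat.card A := by
    rw [← hAc] at hBc
    have h1 : Nat.card B ∣ Nat.card A :=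
      Nat.dvd_of_mul_dvd_mul_right (pow_pos h.hp.pos a) hBc
    exact Nat.le_of_dvd Nat.card_pos h1
  have hAB' : A = B := Subgroup.eq_of_le_of_card_ge hAB hle
  have hw'B : w' ∈ B := mem_inf.mpr ⟨hw'P, mem_cent_iff.mpr hw'x.symm⟩
  rw [← hAB'] at hw'B
  exact ⟨g, (mem_cent_iff.mp (hAy hw'B)).symm⟩

/-- (Step 1) every `p`-element `w₁` of class size `q ^ b` has a `q`-element `x₁` of class size
`p ^ a` none of whose conjugates commutes with `w₁`.
Proof: otherwise (T2) `w₁` commutes with a conjugate of every such `x₁`, and every `q`-element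
`y` commutes with a conjugate of `w₁` (central: trivial; class size `p ^ a`: hypothesis;
class size `p ^ a q ^ b`: `l_union` with `CrossedPP.exists_q`).  Let `Q` be a Sylow
`q`-subgroup; the conjugates of `w₁` are the `c w₁ c⁻¹`, `c ∈ Q`
(`exists_sylow_conj_of_idx_pow`), so every `y ∈ Q` has a `Q`-conjugate in `Q ⊓ C(w₁)`, which is a
proper subgroup of `Q` since `q ∣ idx w₁`: contradiction with `ConjUnion.exists_not_mem_conj`
applied to the group `↥Q`. -/
theorem CrossedPP.step1 [Finite G] (h : CrossedPP G p q a b) {w₁ : G} (hw₁ : IsPEl p w₁)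
    (hw₁i : idx w₁ = q ^ b) :
    ∃ x₁ : G, IsPEl q x₁ ∧ idx x₁ = p ^ a ∧ ∀ g : G, ¬ Commute (g * x₁ * g⁻¹) w₁ := by
  classical
  have : Fact p.Prime := ⟨h.hp⟩
  have : Fact q.Prime := ⟨h.hq⟩
  by_contra hcon
  push Not at hcon
  -- every `q`-element of class size `p ^ a` has a conjugate commuting with `w₁`
  have hall : ∀ x₁ : G, IsPEl q x₁ → idx x₁ = p ^ a → ∃ g : G, Commute (g * x₁ * g⁻¹) w₁ :=
    fun x₁ h1 h2 => hcon x₁ h1 h2
  -- every `q`-element commutes with a conjugate of `w₁`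
  have hevery : ∀ y : G, IsPEl q y → ∃ g : G, Commute y (g * w₁ * g⁻¹) := by
    intro y hy
    rcases h.idx_q hy with h1 | h1 | h1
    · refine ⟨1, ?_⟩
      have hyc : y ∈ center G := (idx_eq_one_iff y).mp h1
      have h2 : Commute y w₁ := (Subgroup.mem_center_iff.mp hyc w₁).symm
      simpa using h2
    · obtain ⟨g, hg⟩ := hall y hy h1
      refine ⟨g⁻¹, ?_⟩
      have h2 : g⁻¹ * (g * y * g⁻¹) * g = y := by group
      have h3 := cs4u_commute_conj hg g⁻¹
      simpa [h2, mul_assoc] using h3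
    · obtain ⟨x₀, hx₀, hx₀i⟩ := h.exists_q
      obtain ⟨g, hg⟩ := hall x₀ hx₀ hx₀i
      exact h.l_union (hx₀.conj g) (by rw [idx_conj, hx₀i]) hw₁ hw₁i hg hy h1
  obtain ⟨Q⟩ : Nonempty (Sylow q G) := inferInstance
  set H : Subgroup (Q : Subgroup G) :=
    ((Q : Subgroup G) ⊓ centralizer ({w₁} : Set G)).subgroupOf (Q : Subgroup G) with hH
  have hHne : H ≠ ⊤ := by
    intro htop
    have hle : (Q : Subgroup G) ≤ centralizer ({w₁} : Set G) := by
      intro v hv
      have : (⟨v, hv⟩ : (Q : Subgroup G)) ∈ H := by rw [htop]; trivial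
      rw [hH, mem_subgroupOf] at this
      exact (mem_inf.mp this).2
    have h1 : ¬ q ∣ idx w₁ := fun hd => Q.not_dvd_index (hd.trans (index_dvd_of_le hle))
    exact h1 (by rw [hw₁i]; exact dvd_pow_self q h.b_pos.ne')
  obtain ⟨y, hyall⟩ := Cfsg.Agent.Helper4.exists_not_mem_conj H hHne
  have hyq : IsPEl q (y : G) := IsPEl.of_mem Q.isPGroup' y.2
  obtain ⟨g, hg⟩ := hevery (y : G) hyq
  obtain ⟨c, hc, hcg⟩ := exists_sylow_conj_of_idx_pow hw₁i Q g
  rw [← hcg] at hg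
  apply hyall ⟨c, hc⟩
  rw [hH, mem_subgroupOf]
  refine mem_inf.mpr ⟨?_, ?_⟩
  · exact ((⟨c, hc⟩ : (Q : Subgroup G))⁻¹ * y * ⟨c, hc⟩).2
  · rw [mem_cent_iff]
    have h3 := cs4u_commute_conj hg c⁻¹
    have h4 : c⁻¹ * (c * w₁ * c⁻¹) * c⁻¹⁻¹ = w₁ := by group
    rw [h4] at h3
    simpa using h3

end Cfsg.Agent.CS4

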