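import Mathlib
import Cfsg.Agent.CS4.Union
import Cfsg.Agent.CS4.Tricho

set_option autoImplicit false

/-!
# S4146, package G: prime-power CROSSED with `p ^ a < q ^ b` is impossible
-/

namespace Cfsg.Agent.CS4

open Subgroup

variable {G : Type*} [Group G] {p q a b : ℕ}

/-- a prime does not divide a power of another prime -/
theorem cs4c_not_dvd {p q : ℕ} (hp : p.Prime) (hq : q.Prime) (hpq : p ≠ q) (b : ℕ) :
    ¬ p ∣ q ^ b := fun hd =>
  hpq ((Nat.prime_dvd_prime_iff_eq hp hq).mp (hp.dvd_of_dvd_pow hd))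

/-- `u x u⁻¹ = x` means `u` and `x` commute -/
theorem cs4c_commute_of_conj {u x : G} (h : u * x * u⁻¹ = x) : Commute u x := by
  have h1 : u * x = u * x * u⁻¹ * u := by group
  show u * x = x * u
  rw [h1, h]

/-- `|H ⊓ K| * |K : H ⊓ K| = |K|` -/
theorem cs4c_card_inf_mul_relIndex [Finite G] (H K : Subgroup G) :
    Nat.card ↥(H ⊓ K) * H.relIndex K = Nat.card K := by
  have h := Subgroup.relIndex_mul_relIndex (H := ⊥) (K := H ⊓ K) (L := K) bot_le inf_le_right
  rwa [Subgroup.relIndex_bot_left, Subgroup.relIndex_bot_left,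
    Subgroup.inf_relIndex_right] at h

/-- the normal closure of a `q`-element whose conjugates commute pairwise is a `q`-group -/
theorem cs4c_normalClosure_isPGroup {q : ℕ} (hq : q.Prime) {x : G} (hx : IsPEl q x)
    (hpair : ∀ g k : G, Commute (g * x * g⁻¹) (k * x * k⁻¹)) :
    IsPGroup q (Subgroup.normalClosure ({x} : Set G)) := by
  have hT : ∀ t ∈ Group.conjugatesOfSet ({x} : Set G), ∃ g : G, t = g * x * g⁻¹ := by
    intro t ht
    rw [Group.mem_conjugatesOfSet_iff] at ht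
    obtain ⟨a, ha, hat⟩ := ht
    rw [Set.mem_singleton_iff] at ha
    subst ha
    obtain ⟨c, hc⟩ := isConj_iff.mp hat
    exact ⟨c, hc.symm⟩
  -- elements of the closure commute with all conjugates
  have h1 : ∀ z ∈ Subgroup.normalClosure ({x} : Set G), ∀ k : G, Commute z (k * x * k⁻¹) := by
    intro z hz k
    have : Subgroup.normalClosure ({x} : Set G) ≤ centralizer ({k * x * k⁻¹} : Set G) := by
      rw [Subgroup.normalClosure, Subgroup.closure_le]
      intro t ht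
      obtain ⟨g, rfl⟩ := hT t ht
      exact mem_cent_iff.mpr (hpair g k)
    exact mem_cent_iff.mp (this hz)
  have h2 : ∀ z ∈ Subgroup.normalClosure ({x} : Set G),
      ∀ z' ∈ Subgroup.normalClosure ({x} : Set G), Commute z z' := by
    intro z hz z' hz'
    have : Subgroup.normalClosure ({x} : Set G) ≤ centralizer ({z} : Set G) := by
      rw [Subgroup.normalClosure, Subgroup.closure_le]
      intro t ht
      obtain ⟨g, rfl⟩ := hT t ht
      exact mem_cent_iff.mpr (h1 z hz g).symm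
    exact (mem_cent_iff.mp (this hz')).symm
  have h3 : ∀ z ∈ Subgroup.normalClosure ({x} : Set G), IsPEl q z := by
    intro z hz
    have hz' := hz
    rw [Subgroup.normalClosure] at hz'
    induction hz' using Subgroup.closure_induction with
    | mem t ht =>
      obtain ⟨g, rfl⟩ := hT t ht
      exact hx.conj g
    | one => exact isPEl_one q
    | mul a b ha hb iha ihb =>
      have ha' : a ∈ Subgroup.normalClosure ({x} : Set G) := ha
      have hb' : b ∈ Subgroup.normalClosure ({x} : Set G) := hb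
      exact IsPEl.mul hq (iha ha') (ihb hb') (h2 a ha' b hb')
    | inv a ha iha =>
      have ha' : a ∈ Subgroup.normalClosure ({x} : Set G) := ha
      exact (iha ha').inv
  intro z
  obtain ⟨k, hk⟩ := h3 z z.2
  refine ⟨k, ?_⟩
  apply Subtype.ext
  rw [Subgroup.coe_pow, ← hk, pow_orderOf_eq_one]
  rfl

/-- a normal `q`-subgroup lies in every Sylow `q`-subgroup -/
theorem cs4c_normal_le_sylow [Finite G] {q : ℕ} [Fact q.Prime] {N : Subgroup G} [N.Normal]
    (hN : IsPGroup q N) (Q : Sylow q G) : N ≤ (Q : Subgroup G) := by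
  have h1 : IsPGroup q (N ⊔ (Q : Subgroup G) : Subgroup G) :=
    IsPGroup.to_sup_of_normal_left hN Q.isPGroup'
  have h2 := Q.is_maximal' h1 le_sup_right
  rw [← h2]
  exact le_sup_left

/-- (Step 3) a `q`-element commuting with a `p`-element `w₁` of class size `q ^ b` has class size
`1` or `p ^ a`.
Proof: if `idx y = p ^ a q ^ b` then `C(y) ≤ C(w₁)` by (G2).  `step1` gives `x₁` with no conjugate
commuting with `w₁`; `tricho` (with `n = p ^ a < m = q ^ b`, `x = x₁`, `w = w₁`) gives `U ≠ ⊥`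
normal, `w₁` fixed-point-free on `U`, all `v ∈ U`, `v ≠ 1`, of class size `p ^ a`.  The
`q`-element `y` commutes with a conjugate `v₀` of such a `v` (`exists_conj_commute`), `v₀ ∈ U`,
`v₀ ≠ 1`, `v₀ ∈ C(y) ≤ C(w₁)`: contradiction. -/
theorem CrossedPP.step3 [Finite G] (h : CrossedPP G p q a b) (hlt : p ^ a < q ^ b) {w₁ y : G}
    (hw₁ : IsPEl p w₁) (hw₁i : idx w₁ = q ^ b) (hy : IsPEl q y) (hyw : Commute y w₁) :
    idx y = 1 ∨ idx y = p ^ a := by
  classical
  have : Fact p.Prime := ⟨h.hp⟩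
  have : Fact q.Prime := ⟨h.hq⟩
  rcases h.idx_q hy with h1 | h1 | h1
  · exact Or.inl h1
  · exact Or.inr h1
  · exfalso
    have hqp : ¬ q ∣ p ^ a := cs4c_not_dvd h.hq h.hp h.hpq.symm a
    have hle := h.cr.toCS.cent_le_of_idx_nm h1 hyw (IsPEl.coprime h.hq h.hp h.hpq.symm hy hw₁)
    obtain ⟨x₁, hx₁, hx₁i, hnc⟩ := h.step1 hw₁ hw₁i
    have hwo : (orderOf w₁).Coprime (q ^ b) :=
      hw₁.coprime_of_not_dvd h.hp (cs4c_not_dvd h.hp h.hq h.hpq b)
    obtain ⟨U, hUn, hUne, -, -, hfpf, hUi⟩ := tricho h.cr.toCS hlt hx₁i hw₁i hwo hnc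
    obtain ⟨⟨v, hv⟩, hv1⟩ := (Subgroup.ne_bot_iff_exists_ne_one).mp hUne
    have hv1' : v ≠ 1 := fun hh => hv1 (Subtype.ext hh)
    have hvi : idx v = p ^ a := hUi v hv hv1'
    obtain ⟨g, hg⟩ := exists_conj_commute (t := q) (w := y) (x := v) hy (by rw [hvi]; exact hqp)
    have hv₀U : g * v * g⁻¹ ∈ U := hUn.conj_mem v hv g
    have hv₀y : g * v * g⁻¹ ∈ centralizer ({y} : Set G) := mem_cent_iff.mpr hg.symm
    have hv₀w : Commute (g * v * g⁻¹) w₁ := mem_cent_iff.mp (hle hv₀y)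
    have h2 := hfpf _ hv₀U hv₀w
    apply hv1'
    have h3 : v = g⁻¹ * (g * v * g⁻¹) * g := by group
    rw [h3, h2]; group

/-- some `q`-element of class size `p ^ a` commutes with some `p`-element of class size `q ^ b`.
Proof: take `w₁` (`exists_p`).  If no noncentral `q`-element commutes with `w₁`... by `step3` the
`q`-elements of `C(w₁)` have class size `1` or `p ^ a`; if all of them are central then
`star_false` for `h.cr.symm` (with `x := w₁`, `r := p`) gives `False`. -/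
theorem CrossedPP.exists_comm [Finite G] (h : CrossedPP G p q a b) (hlt : p ^ a < q ^ b) :
    ∃ x₁ w₁ : G, IsPEl q x₁ ∧ idx x₁ = p ^ a ∧ IsPEl p w₁ ∧ idx w₁ = q ^ b ∧ Commute x₁ w₁ := by
  classical
  have : Fact p.Prime := ⟨h.hp⟩
  have : Fact q.Prime := ⟨h.hq⟩
  obtain ⟨w₁, hw₁, hw₁i⟩ := h.exists_p
  by_contra hcon
  push Not at hcon
  apply star_false h.cr.symm h.hp (dvd_pow_self p h.a_pos.ne') hw₁ hw₁i
  intro y hy s hs hsq hys
  have hsq' : s = q := (Nat.prime_dvd_prime_iff_eq hs h.hq).mp (hs.dvd_of_dvd_pow hsq)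
  subst hsq'
  have hyw : Commute y w₁ := mem_cent_iff.mp hy
  rcases h.step3 hlt hw₁ hw₁i hys hyw with h1 | h1
  · exact (idx_eq_one_iff y).mp h1
  · exact absurd hyw (hcon y w₁ hys h1 hw₁ hw₁i)

/-- (S-a) every `q`-element has class size `1` or `p ^ a`.
Proof: `exists_comm` gives `x₁`, `w₁`; if `idx y = p ^ a q ^ b`, `l_union` gives a conjugate of
`w₁` commuting with `y`, contradicting `step3`. -/
theorem CrossedPP.idx_q_le [Finite G] (h : CrossedPP G p q a b) (hlt : p ^ a < q ^ b) {y : G}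
    (hy : IsPEl q y) : idx y = 1 ∨ idx y = p ^ a := by
  classical
  rcases h.idx_q hy with h1 | h1 | h1
  · exact Or.inl h1
  · exact Or.inr h1
  · exfalso
    obtain ⟨x₁, w₁, hx₁, hx₁i, hw₁, hw₁i, hc⟩ := h.exists_comm hlt
    obtain ⟨g, hg⟩ := h.l_union hx₁ hx₁i hw₁ hw₁i hc hy h1
    have hq1 : 1 < q ^ b := Nat.one_lt_pow h.b_pos.ne' h.hq.one_lt
    have hp1 : 0 < p ^ a := pow_pos h.hp.pos a
    rcases h.step3 hlt (hw₁.conj g) (by rw [idx_conj, hw₁i]) hy hg with h2 | h2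
    · rw [h1] at h2
      have : 1 < p ^ a * q ^ b := by nlinarith
      omega
    · rw [h1] at h2
      have : p ^ a * 1 < p ^ a * q ^ b := Nat.mul_lt_mul_of_pos_left hq1 hp1
      omega

/-- (Step 2) two `q`-elements of class size `≤ p ^ a` commute.
Proof: wlog both noncentral.  `h.symm.step1` gives a `p`-element `w₁` of class size `q ^ b` with
no conjugate commuting with `x₂`; `tricho` shows the conjugates of `x₂` commute pairwise, so the
normal closure `N₂` of `x₂` is an abelian group generated by `q`-elements, a normal `q`-subgroup,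
hence contained in every Sylow `q`-subgroup.  `C(x₁)` contains a Sylow `q`-subgroup
(`exists_sylow_le_cent`), so `x₁` commutes with `x₂`. -/
theorem CrossedPP.tq_comm [Finite G] (h : CrossedPP G p q a b) (hlt : p ^ a < q ^ b) {x₁ x₂ : G}
    (h₁ : IsPEl q x₁) (h₂ : IsPEl q x₂) (hi₁ : idx x₁ = 1 ∨ idx x₁ = p ^ a)
    (hi₂ : idx x₂ = 1 ∨ idx x₂ = p ^ a) : Commute x₁ x₂ := by
  classical
  have : Fact p.Prime := ⟨h.hp⟩
  have : Fact q.Prime := ⟨h.hq⟩
  rcases hi₁ with hi₁ | hi₁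
  · have hc : x₁ ∈ center G := (idx_eq_one_iff x₁).mp hi₁
    exact (Subgroup.mem_center_iff.mp hc x₂).symm
  rcases hi₂ with hi₂ | hi₂
  · have hc : x₂ ∈ center G := (idx_eq_one_iff x₂).mp hi₂
    exact Subgroup.mem_center_iff.mp hc x₁
  have hqp : ¬ q ∣ p ^ a := cs4c_not_dvd h.hq h.hp h.hpq.symm a
  -- a `p`-element `w₁` of class size `q ^ b` with no conjugate commuting with `x₂`
  obtain ⟨w₁, hw₁, hw₁i, hnc⟩ := h.symm.step1 h₂ hi₂
  have hnc' : ∀ g : G, ¬ Commute (g * x₂ * g⁻¹) w₁ := by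
    intro g hg
    apply hnc g⁻¹
    have h3 := cs4u_commute_conj hg g⁻¹
    have h4 : g⁻¹ * (g * x₂ * g⁻¹) * g⁻¹⁻¹ = x₂ := by group
    rw [h4] at h3
    exact h3.symm
  have hwo : (orderOf w₁).Coprime (q ^ b) :=
    hw₁.coprime_of_not_dvd h.hp (cs4c_not_dvd h.hp h.hq h.hpq b)
  obtain ⟨U, -, -, -, hpair, -, -⟩ := tricho h.cr.toCS hlt hi₂ hw₁i hwo hnc'
  -- the normal closure of `x₂` is a normal `q`-subgroup
  have hN := cs4c_normalClosure_isPGroup h.hq h₂ hpair
  obtain ⟨Q, hQ⟩ := exists_sylow_le_cent (p := q) (g := x₁) (by rw [hi₁]; exact hqp)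
  have hNQ : Subgroup.normalClosure ({x₂} : Set G) ≤ (Q : Subgroup G) :=
    cs4c_normal_le_sylow hN Q
  have hx₂ : x₂ ∈ Subgroup.normalClosure ({x₂} : Set G) :=
    Subgroup.subset_normalClosure (Set.mem_singleton x₂)
  exact (mem_cent_iff.mp (hQ (hNQ hx₂))).symm

/-- the final contradiction.
Proof: `exists_comm` gives commuting `x₁` (`q`-element, class size `p ^ a`) and `w₁` (`p`-element,
class size `q ^ b`).  `step1` + `tricho` for `w₁` give `U` normal, `U ≠ ⊥`, `|U| ∣ q ^ b`, `w₁`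
fixed-point-free on `U`, every `v ∈ U`, `v ≠ 1` a `q`-element of class size `p ^ a`.  Fix such a
`v` and a Sylow `p`-subgroup `P ≤ C(w₁)` (`exists_sylow_le_cent`; `w₁ ∈ P` by
`mem_sylow_of_centralizes`).  `y := x₁ v` is a `q`-element (`tq_comm`), so `idx y ≤ p ^ a`
(`idx_q_le`).  If `u ∈ P` commutes with `y` then (all of `x₁, v` and their conjugates commute,
`tq_comm`) `c := x₁⁻¹ (u x₁ u⁻¹) = v (u v u⁻¹)⁻¹ ∈ U` commutes with `w₁`, so `c = 1`: `u`
commutes with `x₁` and `v`.  So `P ⊓ C(y) ≤ P ⊓ C(x₁) ⊓ C(v)`.  `|P : P ⊓ C(y)| ≤ p ^ a`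
(`relIndex_cent_le_idx`) and `|P ⊓ C(x₁)| ≤ |P| / p ^ a` (`card_pgroup_cent_dvd`), so
`P ⊓ C(y) = P ⊓ C(x₁) ∋ w₁`, and `w₁` commutes with `v ≠ 1`: contradiction. -/
theorem CrossedPP.false_of_lt [Finite G] (h : CrossedPP G p q a b) (hlt : p ^ a < q ^ b) :
    False := by
  classical
  have : Fact p.Prime := ⟨h.hp⟩
  have : Fact q.Prime := ⟨h.hq⟩
  have hqp : ¬ q ∣ p ^ a := cs4c_not_dvd h.hq h.hp h.hpq.symm a
  have hpq' : ¬ p ∣ q ^ b := cs4c_not_dvd h.hp h.hq h.hpq b
  obtain ⟨x₁, w₁, hx₁, hx₁i, hw₁, hw₁i, hc⟩ := h.exists_comm hlt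
  obtain ⟨x₀, hx₀, hx₀i, hnc⟩ := h.step1 hw₁ hw₁i
  have hwo : (orderOf w₁).Coprime (q ^ b) := hw₁.coprime_of_not_dvd h.hp hpq'
  obtain ⟨U, hUn, hUne, hUc, -, hfpf, hUi⟩ := tricho h.cr.toCS hlt hx₀i hw₁i hwo hnc
  obtain ⟨⟨v, hv⟩, hv1⟩ := (Subgroup.ne_bot_iff_exists_ne_one).mp hUne
  have hv1' : v ≠ 1 := fun hh => hv1 (Subtype.ext hh)
  have hvi : idx v = p ^ a := hUi v hv hv1'
  -- `U` is a `q`-group
  have hUq : IsPGroup q U := by
    obtain ⟨j, -, hj⟩ := (Nat.dvd_prime_pow h.hq).mp hUc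
    exact IsPGroup.of_card hj
  have hvq : IsPEl q v := IsPEl.of_mem hUq hv
  -- Sylow `p`-subgroup in `C(w₁)`
  obtain ⟨P, hP⟩ := exists_sylow_le_cent (p := p) (g := w₁) (by rw [hw₁i]; exact hpq')
  have hw₁P : w₁ ∈ P := mem_sylow_of_centralizes P hw₁
    (fun u hu => (mem_cent_iff.mp (hP hu)).symm)
  have hx₁v : Commute x₁ v := h.tq_comm hlt hx₁ hvq (Or.inr hx₁i) (Or.inr hvi)
  set y := x₁ * v with hy
  have hyq : IsPEl q y := IsPEl.mul h.hq hx₁ hvq hx₁v
  have hyi : idx y ≤ p ^ a := by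
    rcases h.idx_q_le hlt hyq with h1 | h1
    · rw [h1]; exact Nat.one_le_pow _ _ h.hp.pos
    · rw [h1]
  -- `P ⊓ C(y) ≤ P ⊓ C(x₁) ⊓ C(v)`
  have hkey : ∀ u ∈ (P : Subgroup G), Commute u y → Commute u x₁ ∧ Commute u v := by
    intro u hu huy
    have huw : Commute u w₁ := mem_cent_iff.mp (hP hu)
    set c := x₁⁻¹ * (u * x₁ * u⁻¹) with hc'
    have hc2 : c = v * (u * v * u⁻¹)⁻¹ := by
      have h1 : u * y * u⁻¹ = y := by rw [huy.eq]; group
      have h2 : u * y * u⁻¹ = (u * x₁ * u⁻¹) * (u * v * u⁻¹) := by rw [hy]; group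
      rw [h2] at h1
      rw [hc', eq_mul_inv_iff_mul_eq, mul_assoc, h1, hy]; group
    have hcU : c ∈ U := by
      rw [hc2]
      exact U.mul_mem hv (U.inv_mem (hUn.conj_mem v hv u))
    have hcw : Commute c w₁ := by
      have h1 : Commute (u * x₁ * u⁻¹) w₁ := by
        have h3 := cs4u_commute_conj hc u
        have h4 : u * w₁ * u⁻¹ = w₁ := by rw [huw.eq]; group
        rwa [h4] at h3
      exact (hc.inv_left).mul_left h1
    have hc1 : c = 1 := hfpf c hcU hcw
    have hux : u * x₁ * u⁻¹ = x₁ := by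
      have : x₁ * c = x₁ := by rw [hc1, mul_one]
      rw [hc', mul_inv_cancel_left] at this
      exact this
    have huv : u * v * u⁻¹ = v := by
      rw [hc1] at hc2
      have h5 : v * (u * v * u⁻¹)⁻¹ * (u * v * u⁻¹) = 1 * (u * v * u⁻¹) := by rw [← hc2]
      rw [inv_mul_cancel_right, one_mul] at h5
      exact h5.symm
    constructor
    · exact cs4c_commute_of_conj hux
    · exact cs4c_commute_of_conj huv
  set A : Subgroup G := (P : Subgroup G) ⊓ centralizer ({y} : Set G) with hA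
  set B : Subgroup G := (P : Subgroup G) ⊓ centralizer ({x₁} : Set G) with hB
  have hAB : A ≤ B := by
    intro u hu
    obtain ⟨hu1, hu2⟩ := mem_inf.mp hu
    exact mem_inf.mpr ⟨hu1, mem_cent_iff.mpr (hkey u hu1 (mem_cent_iff.mp hu2)).1⟩
  have hAv : A ≤ centralizer ({v} : Set G) := by
    intro u hu
    obtain ⟨hu1, hu2⟩ := mem_inf.mp hu
    exact mem_cent_iff.mpr (hkey u hu1 (mem_cent_iff.mp hu2)).2
  -- orders
  have hBc : Nat.card B * p ^ a ∣ p ^ (Nat.card G).factorization p :=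
    card_pgroup_cent_dvd (g := x₁) (a := a) (by rw [hx₁i]) B (P.isPGroup'.to_le inf_le_left)
      inf_le_right
  have hPc : Nat.card (P : Subgroup G) = p ^ (Nat.card G).factorization p :=
    P.card_eq_multiplicity
  have hrel : (centralizer ({y} : Set G)).relIndex (P : Subgroup G) ≤ p ^ a :=
    (relIndex_cent_le_idx y (P : Subgroup G)).trans hyi
  have hAcard : Nat.card A * (centralizer ({y} : Set G)).relIndex (P : Subgroup G) =
      Nat.card (P : Subgroup G) := by
    rw [hA, inf_comm]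
    exact cs4c_card_inf_mul_relIndex _ _
  have hle : Nat.card B ≤ Nat.card A := by
    rw [← hPc, ← hAcard] at hBc
    have h1 : Nat.card B * p ^ a ≤
        Nat.card A * (centralizer ({y} : Set G)).relIndex (P : Subgroup G) :=
      Nat.le_of_dvd (Nat.mul_pos Nat.card_pos (by
        rcases Nat.eq_zero_or_pos ((centralizer ({y} : Set G)).relIndex (P : Subgroup G)) with h0 | h0
        · rw [h0, mul_zero] at hAcard
          exact absurd hAcard.symm (Nat.card_pos).ne'
        · exact h0)) hBc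
    have h2 : Nat.card A * (centralizer ({y} : Set G)).relIndex (P : Subgroup G) ≤
        Nat.card A * p ^ a := Nat.mul_le_mul_left _ hrel
    exact Nat.le_of_mul_le_mul_right (h1.trans h2) (pow_pos h.hp.pos a)
  have hAB' : A = B := Subgroup.eq_of_le_of_card_ge hAB hle
  have hw₁B : w₁ ∈ B := mem_inf.mpr ⟨hw₁P, mem_cent_iff.mpr hc.symm⟩
  rw [← hAB'] at hw₁B
  have hwv : Commute w₁ v := mem_cent_iff.mp (hAv hw₁B)
  exact hv1' (hfpf v hv hwv.symm)

end Cfsg.Agent.CS4

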