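import Mathlib
import Cfsg.Agent.CS4.Flags
import Cfsg.Agent.Helper4.MaxPPartIndex

set_option autoImplicit false

/-!
# S4146, package D: the PURE case

`FlagB G m` and `FlagB G n`: a `q`-element `w` (`q ∣ m`) of class size `m` and a `p`-element `a`
(`p ∣ n`) of class size `n`.
-/

namespace Cfsg.Agent.CS4

open Subgroup
open scoped Pointwise

variable {G : Type*} [Group G] {n m : ℕ}

/-- a `t`-element is conjugate into any Sylow `t`-subgroup -/
theorem exists_conj_mem_sylow [Finite G] {t : ℕ} [Fact t.Prime] {w : G} (hw : IsPEl t w)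
    (T : Sylow t G) : ∃ g : G, g * w * g⁻¹ ∈ T := by
  obtain ⟨T', hT'⟩ := hw.isPGroup_zpowers.exists_le_sylow
  obtain ⟨g, hg⟩ := MulAction.exists_smul_eq G T' T
  refine ⟨g, ?_⟩
  have h1 : w ∈ (T' : Subgroup G) := hT' (mem_zpowers w)
  have h2 : MulAut.conj g • w ∈ MulAut.conj g • (T' : Subgroup G) :=
    Subgroup.smul_mem_pointwise_smul w (MulAut.conj g) _ h1
  have h3 : MulAut.conj g • (T' : Subgroup G) = (T : Subgroup G) := by
    rw [← hg]; rfl
  rw [h3] at h2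
  exact h2

/-- (P1) `m` is a power of a prime. -/
theorem pure_ppow [Finite G] (h : CS G n m) (hB : FlagB G m) (hB' : FlagB G n) :
    ∃ (q : ℕ) (k : ℕ), q.Prime ∧ m = q ^ k := by
  obtain ⟨t, w, ht, htm, hw, hwm⟩ := hB
  obtain ⟨p, a, hp, hpn, ha, han⟩ := hB'
  have : Fact t.Prime := ⟨ht⟩
  have : Fact p.Prime := ⟨hp⟩
  have hn0 : 0 < n := by have := h.hn; omega
  have hm0 : 0 < m := by have := h.hm; omega
  have hpm : ¬ p ∣ m := h.symm.not_dvd_n hp hpn
  have htn : ¬ t ∣ n := h.not_dvd_n ht htm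
  have htp : t ≠ p := fun he => htn (he ▸ hpn)
  set K := centralizer ({a} : Set G) with hK
  -- class sizes in `K`
  have hN : ∀ y ∈ K, (orderOf y).Coprime p → idx (a * y) = idx a ∨ idx (a * y) = idx a * m := by
    intro y hy hyp
    have hay : Commute a y := (mem_cent_iff.mp hy).symm
    have hcop : (orderOf a).Coprime (orderOf y) := by
      obtain ⟨k, hk⟩ := ha
      rw [hk]; exact Nat.Coprime.pow_left _ hyp.symm
    have h1 := cent_mul_of_coprime hay hcop
    have hd : idx a ∣ idx (a * y) := index_dvd_of_le (h1 ▸ inf_le_left)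
    rw [han] at hd ⊢
    exact h.eq_of_n_dvd hd
  -- a primary element of `K` not central in `K`
  have hex0 : ∃ (q : ℕ) (y₀ : G), q.Prime ∧ q ≠ p ∧ y₀ ∈ K ∧ IsPEl q y₀ ∧ ∃ c ∈ K, ¬ Commute c y₀ := by
    by_contra hcon
    push Not at hcon
    obtain ⟨T, hT⟩ := exists_sylow_le_cent (p := t) (g := a) (by rw [han]; exact htn)
    obtain ⟨g, hg⟩ := exists_conj_mem_sylow hw T
    set w' := g * w * g⁻¹ with hw'
    have hw'K : w' ∈ K := hT hg
    have hle : K ≤ centralizer ({w'} : Set G) :=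
      fun c hc => mem_cent_iff.mpr (hcon t w' ht htp hw'K (hw.conj g) c hc)
    have hd : idx w' ∣ idx a := index_dvd_of_le hle
    rw [hw', idx_conj, hwm, han] at hd
    have := Nat.Coprime.eq_one_of_dvd h.cop.symm hd
    have := h.hm
    omega
  obtain ⟨q, y₀, hq, hqp, hy₀, hy₀q, hy₀nc⟩ := hex0
  have : Fact q.Prime := ⟨hq⟩
  refine ⟨q, ?_⟩
  -- the class of `y₀` in `K` has size `m`
  have hrel : (centralizer ({y₀} : Set G)).relIndex K = m := by
    have hay : Commute a y₀ := (mem_cent_iff.mp hy₀).symm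
    have hcop : (orderOf a).Coprime (orderOf y₀) := ha.coprime hp hq (Ne.symm hqp) hy₀q
    have h1 := relIndex_cent_mul hay hcop
    have hyp : (orderOf y₀).Coprime p := by
      obtain ⟨k, hk⟩ := hy₀q
      rw [hk]; exact Nat.Coprime.pow_left _ ((Nat.coprime_primes hq hp).mpr hqp)
    rcases hN y₀ hy₀ hyp with h2 | h2
    · exfalso
      rw [h2] at h1
      have h3 : (centralizer ({y₀} : Set G)).relIndex K * idx a = 1 * idx a := by
        rw [one_mul]; exact h1
      have h4 := Nat.eq_of_mul_eq_mul_right (idx_pos a) h3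
      obtain ⟨c, hc, hcy⟩ := hy₀nc
      exact hcy (mem_cent_iff.mp (relIndex_eq_one.mp h4 hc))
    · rw [h2, mul_comm (idx a) m] at h1
      exact Nat.eq_of_mul_eq_mul_right (idx_pos a) h1
  by_cases hex : ∃ (s' : ℕ) (y : G), s'.Prime ∧ s' ≠ p ∧ s' ≠ q ∧ y ∈ K ∧ IsPEl s' y ∧
      ∃ c ∈ K, ¬ Commute c y
  · exfalso
    obtain ⟨s', y, hs', hs'p, hs'q, hyK, hys', hync⟩ := hex
    obtain ⟨k, hk⟩ := ppow_of_two_primes (r := p) (x := a) ha m hN hq hs' (Ne.symm hs'q) hqp hs'p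
      hy₀ hyK hy₀q hys' hy₀nc hync
    exact hpm (dvd_of_eq_pow h.hm hk)
  · push Not at hex
    refine ⟨m.primeFactorsList.length, hq, ?_⟩
    apply Nat.eq_prime_pow_of_unique_prime_dvd hm0.ne'
    intro ℓ hℓ hℓm
    by_contra hℓq
    have : Fact ℓ.Prime := ⟨hℓ⟩
    have hℓp : ℓ ≠ p := fun he => hpm (he ▸ hℓm)
    have := not_dvd_of_central_prime (x := a) (g := y₀) hy₀ (s := ℓ) (by
      intro y hy hyℓ c hc
      exact hex ℓ y hℓ hℓp hℓq hy hyℓ c hc)
    rw [hrel] at this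
    exact this hℓm

/-- a prime dividing a prime power -/
theorem eq_of_dvd_pow {t q k : ℕ} (ht : t.Prime) (hq : q.Prime) (h : t ∣ q ^ k) : t = q :=
  (Nat.prime_dvd_prime_iff_eq ht hq).mp (ht.dvd_of_dvd_pow h)

/-- the normal `p`-complement: `n = p ^ i`, a `p`-element of class size `n`. -/
theorem exists_normal_compl [Finite G] (h : CS G n m) {p i : ℕ} [hp : Fact p.Prime]
    (hn : n = p ^ i) (hpm : ¬ p ∣ m) {a : G} (ha : IsPEl p a) (han : idx a = n) :
    ∃ H0 : Subgroup G, H0.Normal ∧ Nat.card H0 = ordCompl[p] (Nat.card G) := by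
  obtain ⟨k, hk⟩ := ha
  apply Cfsg.Agent.Helper4.MaxPPartIndex.main p i ?_ a k hk (by rw [← hn]; exact han)
  intro y hd
  have hpp : ¬ p ^ (i + 1) ∣ p ^ i := by
    intro h1
    have := Nat.le_of_dvd (pow_pos hp.out.pos i) h1
    have h2 : p ^ i < p ^ (i + 1) := Nat.pow_lt_pow_right hp.out.one_lt (Nat.lt_succ_self i)
    omega
  have hp1 : p ∣ p ^ (i + 1) := dvd_pow_self p (Nat.succ_ne_zero i)
  rcases h.cs y with h1 | h1 | h1 | h1
  · rw [show (centralizer ({y} : Set G)).index = 1 from h1] at hd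
    exact hp.out.one_lt.ne' (Nat.eq_one_of_dvd_one (hp1.trans hd))
  · rw [show (centralizer ({y} : Set G)).index = n from h1, hn] at hd
    exact hpp hd
  · rw [show (centralizer ({y} : Set G)).index = m from h1] at hd
    exact hpm (hp1.trans hd)
  · rw [show (centralizer ({y} : Set G)).index = n * m from h1, hn] at hd
    -- `p ^ (i+1) ∣ p ^ i * m` with `p ∤ m`
    have hcop : (p ^ (i + 1)).Coprime m :=
      Nat.Coprime.pow_left _ ((Nat.Prime.coprime_iff_not_dvd hp.out).mpr hpm)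
    exact hpp (hcop.dvd_of_dvd_mul_right hd)

/-- PURE implies nilpotent. -/
theorem pure_nilpotent [Finite G] (h : CS G n m) (hB : FlagB G m) (hB' : FlagB G n) :
    Group.IsNilpotent G := by
  obtain ⟨q, j, hq, hmq⟩ := pure_ppow h hB hB'
  obtain ⟨p, i, hp, hnp⟩ := pure_ppow h.symm hB' hB
  obtain ⟨t, w, ht, htm, hw, hwm⟩ := hB
  obtain ⟨t', a, ht', ht'n, ha, han⟩ := hB'
  have htq : t = q := eq_of_dvd_pow ht hq (hmq ▸ htm)
  have ht'p : t' = p := eq_of_dvd_pow ht' hp (hnp ▸ ht'n)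
  subst htq
  subst ht'p
  have : Fact t.Prime := ⟨ht⟩
  have : Fact t'.Prime := ⟨ht'⟩
  have hpm : ¬ t' ∣ m := h.symm.not_dvd_n ht' ht'n
  have hqn : ¬ t ∣ n := h.not_dvd_n ht htm
  obtain ⟨H0, hH0n, hH0c⟩ := exists_normal_compl h hnp hpm ha han
  obtain ⟨H1, hH1n, hH1c⟩ := exists_normal_compl h.symm hmq hqn hw hwm
  -- the quotients are nilpotent
  have hquot : ∀ (r : ℕ) [Fact r.Prime] (H : Subgroup G) [H.Normal],
      Nat.card H = ordCompl[r] (Nat.card G) → Group.IsNilpotent (G ⧸ H) := by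
    intro r hr H _ hc
    have hidx : H.index = r ^ (Nat.card G).factorization r := by
      have h3 := H.card_mul_index
      rw [hc] at h3
      have h4 := Nat.ordProj_mul_ordCompl_eq_self (Nat.card G) r
      have hpos : 0 < ordCompl[r] (Nat.card G) := Nat.ordCompl_pos r Nat.card_pos.ne'
      apply Nat.eq_of_mul_eq_mul_left hpos
      rw [h3, mul_comm, h4]
    have hP : IsPGroup r (G ⧸ H) := IsPGroup.of_card (n := (Nat.card G).factorization r) hidx
    exact hP.isNilpotent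
  have hN0 : Group.IsNilpotent (G ⧸ H0) := hquot t' H0 hH0c
  have hN1 : Group.IsNilpotent (G ⧸ H1) := hquot t H1 hH1c
  set f : G →* (G ⧸ H0) × (G ⧸ H1) := (QuotientGroup.mk' H0).prod (QuotientGroup.mk' H1) with hf
  apply Subgroup.isNilpotent_of_ker_le_center f
  intro g hg
  rw [hf, MonoidHom.mem_ker, MonoidHom.prod_apply, Prod.mk_eq_one, QuotientGroup.mk'_apply,
    QuotientGroup.mk'_apply, QuotientGroup.eq_one_iff, QuotientGroup.eq_one_iff] at hg
  -- the order of `g` is prime to `p` and `q`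
  have hnd : ∀ (r : ℕ) [Fact r.Prime] (H : Subgroup G), Nat.card H = ordCompl[r] (Nat.card G) →
      g ∈ H → ¬ r ∣ orderOf g := by
    intro r hr H hc hgH hd
    have h1 : orderOf g ∣ Nat.card H := by
      have := orderOf_dvd_natCard (⟨g, hgH⟩ : H)
      rwa [Subgroup.orderOf_mk] at this
    rw [hc] at h1
    exact Nat.not_dvd_ordCompl hr.out Nat.card_pos.ne' (hd.trans h1)
  have hgp : ¬ t' ∣ orderOf g := hnd t' H0 hH0c hg.1
  have hgq : ¬ t ∣ orderOf g := hnd t H1 hH1c hg.2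
  by_contra hgc
  obtain ⟨ℓ, hℓ, g', hg', hg'ℓ, hg'c⟩ := exists_primary_noncentral _ g rfl hgc
  have : Fact ℓ.Prime := ⟨hℓ⟩
  have hdvd : orderOf g' ∣ orderOf g := by
    obtain ⟨z, rfl⟩ := mem_zpowers_iff.mp hg'
    exact orderOf_dvd_of_pow_eq_one (by rw [← zpow_natCast, ← zpow_mul, mul_comm, zpow_mul,
      zpow_natCast, pow_orderOf_eq_one, one_zpow])
  have hg'1 : g' ≠ 1 := fun h1 => hg'c (h1 ▸ one_mem _)
  have hℓg : ℓ ∣ orderOf g := by
    obtain ⟨k, hk⟩ := hg'ℓ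
    have hk0 : k ≠ 0 := by
      rintro rfl
      rw [pow_zero, orderOf_eq_one_iff] at hk
      exact hg'1 hk
    exact (hk ▸ dvd_pow_self ℓ hk0 : ℓ ∣ orderOf g').trans hdvd
  by_cases hℓn : ℓ ∣ n
  · have : ℓ = t' := eq_of_dvd_pow hℓ ht' (hnp ▸ hℓn)
    exact hgp (this ▸ hℓg)
  · by_cases hℓm : ℓ ∣ m
    · have : ℓ = t := eq_of_dvd_pow hℓ ht (hmq ▸ hℓm)
      exact hgq (this ▸ hℓg)
    · exact hg'c (h.mem_center_of_not_dvd hℓn hℓm hg'ℓ)

end Cfsg.Agent.CS4
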