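import Mathlib
import Cfsg.Agent.CS4.Chain
import Cfsg.Agent.CS4.Pure

set_option autoImplicit false

/-!
# S4146, package H: assembly
-/

namespace Cfsg.Agent.CS4

open Subgroup

variable {G : Type*} [Group G] {n m : ℕ}

/-- CROSSED is impossible. -/
theorem crossed_false [Finite G] (h : Crossed G n m) : False := by
  obtain ⟨q, b, hq, hm⟩ := crossed_ppow h
  obtain ⟨p, a, hp, hn⟩ := crossed_ppow h.symm
  have hpn : p ∣ n := dvd_of_eq_pow h.hn hn
  have hqm : q ∣ m := dvd_of_eq_pow h.hm hm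
  have hpq : p ≠ q := fun he => h.toCS.not_dvd_n hq hqm (he ▸ hpn)
  subst hn
  subst hm
  have hpp : CrossedPP G p q a b := ⟨hp, hq, hpq, h⟩
  rcases lt_trichotomy (p ^ a) (q ^ b) with hlt | heq | hgt
  · exact hpp.false_of_lt hlt
  · have h1 : p ∣ q ^ b := heq ▸ hpn
    exact h.toCS.not_dvd_n hq hqm (((Nat.prime_dvd_prime_iff_eq hp hq).mp
      (hp.dvd_of_dvd_pow h1)) ▸ hpn)
  · exact hpp.symm.false_of_lt hgt

/-- a prime power bigger than `1` -/
theorem isPrimePow_of_eq_pow {N q k : ℕ} (hN : 1 < N) (hq : q.Prime) (h : N = q ^ k) :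
    IsPrimePow N := by
  rw [isPrimePow_nat_iff]
  refine ⟨q, k, hq, ?_, h.symm⟩
  rcases Nat.eq_zero_or_pos k with rfl | hk
  · rw [pow_zero] at h; omega
  · exact hk

/-- S4146 in terms of `CS`. -/
theorem cs_main [Finite G] (h : CS G n m) :
    Group.IsNilpotent G ∧ IsPrimePow n ∧ IsPrimePow m := by
  rcases dichotomy h with ⟨hB, hB'⟩ | ⟨hA, hA', hB, hB'⟩
  · obtain ⟨q, j, hq, hmq⟩ := pure_ppow h hB hB'
    obtain ⟨p, i, hp, hnp⟩ := pure_ppow h.symm hB' hB
    exact ⟨pure_nilpotent h hB hB', isPrimePow_of_eq_pow h.hn hp hnp,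
      isPrimePow_of_eq_pow h.hm hq hmq⟩
  · exact (crossed_false ⟨h, hA, hA', hB, hB'⟩).elim

/-- S4146. -/
theorem main [Finite G] (n m : ℕ) (hn : 1 < n) (hm : 1 < m) (hcop : n.Coprime m)
    (h : Set.range (fun x : G => (Subgroup.centralizer ({x} : Set G)).index) =
      ({1, n, m, n * m} : Set ℕ)) :
    Group.IsNilpotent G ∧ IsPrimePow n ∧ IsPrimePow m := by
  have hmem : ∀ N : ℕ, N ∈ ({1, n, m, n * m} : Set ℕ) → ∃ g : G, idx g = N := by
    intro N hN
    rw [← h] at hN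
    obtain ⟨g, hg⟩ := hN
    exact ⟨g, hg⟩
  apply cs_main (n := n) (m := m)
  refine ⟨hn, hm, hcop, ?_, ?_, ?_, ?_⟩
  · intro g
    have hg : idx g ∈ Set.range (fun x : G => (Subgroup.centralizer ({x} : Set G)).index) :=
      ⟨g, rfl⟩
    rw [h] at hg
    simpa using hg
  · exact hmem n (by simp)
  · exact hmem m (by simp)
  · exact hmem (n * m) (by simp)

end Cfsg.Agent.CS4
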